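import Groth.Agent.L23.PFin.Cons
import Groth.Agent.L17.AcyclicThen

/-!
# Direct images along an acyclic first morphism
-/

set_option autoImplicit false
set_option linter.style.haveILetI false
set_option linter.unusedSectionVars false
set_option backward.isDefEq.respectTransparency false
set_option backward.isDefEq.respectTransparency.types false

universe u

open CategoryTheory CategoryTheory.Limits AlgebraicGeometry Opposite

namespace Groth.L23.PFin

variable {X Y Z : Scheme.{u}}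

/-- The Leray isomorphism for an acyclic sheaf. -/
theorem nonempty_Rpush_comp_iso (g : Z ⟶ X) (f : X ⟶ Y) (F : EtCoh.Ab Z)
    (h : ∀ j, IsZero ((EtCoh.Rpush g (j + 1)).obj F)) (q : ℕ) :
    Nonempty ((EtCoh.Rpush (g ≫ f) q).obj F ≅ (EtCoh.Rpush f q).obj ((EtCoh.push g).obj F)) := by
  letI := HasDerivedCategory.standard (EtCoh.Ab X)
  obtain ⟨e⟩ := Groth.L28.Supp.nonempty_rightDerived_iso (EtCoh.pushComp f g) q F
  obtain ⟨e'⟩ := Groth.L17.GrothSS.nonempty_rightDerived_comp_of_acyclic (EtCoh.push g) (EtCoh.push f)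
    (fun Q hQ i hi => by
      haveI := hQ
      haveI : Injective ((EtCoh.push g).obj Q) := Functor.injective_obj _ Q
      obtain ⟨i, rfl⟩ : ∃ k, i = k + 1 := ⟨i - 1, by omega⟩
      exact (EtCoh.push f).isZero_rightDerived_obj_injective_succ i _)
    F (fun i hi => by
      obtain ⟨i, rfl⟩ : ∃ k, i = k + 1 := ⟨i - 1, by omega⟩
      exact h i) q
  exact ⟨e.symm ≪≫ e'⟩

theorem good_push_iff (g : Z ⟶ X) (f : X ⟶ Y) (F : EtCoh.Ab Z)
    (h : ∀ j, IsZero ((EtCoh.Rpush g (j + 1)).obj F)) :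
    Good f ((EtCoh.push g).obj F) ↔ Good (g ≫ f) F :=
  ⟨fun H q => by
      obtain ⟨e⟩ := nonempty_Rpush_comp_iso g f F h q
      exact cons_of_iso e.symm (H q),
    fun H q => by
      obtain ⟨e⟩ := nonempty_Rpush_comp_iso g f F h q
      exact cons_of_iso e (H q)⟩

theorem isZero_Rpush_finite (g : Z ⟶ X) [IsFinite g] (F : EtCoh.Ab Z) (j : ℕ) :
    IsZero ((EtCoh.Rpush g (j + 1)).obj F) :=
  Groth.L27.EtSite.isZero_Rpush_of_propB g (Groth.L27.EtSite.propB_of_isIntegralHom g) F (j + 1) j.succ_pos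

theorem good_push_finite_iff (g : Z ⟶ X) [IsFinite g] (f : X ⟶ Y) (F : EtCoh.Ab Z) :
    Good f ((EtCoh.push g).obj F) ↔ Good (g ≫ f) F :=
  good_push_iff g f F (isZero_Rpush_finite g F)

end Groth.L23.PFin
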