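import Groth.Agent.L27.EmbedFinitePush.Stages
import Groth.Agent.L27.LimCoh.StageSys
import Groth.Agent.L27.LimCoh.PushSys
import Groth.Agent.L27.EtSite.BaseChangeIso
import Groth.Agent.L27.EtSite.Push

/-!
# Morphisms to finite pushforwards of constant sheaves and stages of limits
-/

set_option autoImplicit false
set_option linter.style.haveILetI false
set_option linter.unusedSectionVars false
set_option backward.isDefEq.respectTransparency.types false

universe u

open CategoryTheory CategoryTheory.Limits AlgebraicGeometry Opposite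

noncomputable section

namespace Groth.L23.PFin

open Groth.L27.LimCoh Groth.L27.ConstSect

theorem assoc₄ {C : Type*} [Category C] {P Q R S U : C} {a : P ⟶ Q} {b : Q ⟶ R} {m : P ⟶ R} {c : R ⟶ S} {d : S ⟶ U}
    (e : a ≫ b = m) : a ≫ b ≫ c ≫ d = m ≫ c ≫ d := by
  rw [← e, Category.assoc]

section Square

variable {X Xl Z Zl : Scheme.{u}} {h : Z ⟶ X} {h' : Zl ⟶ Xl} {γ : Z ⟶ Zl} {π : X ⟶ Xl}
  (sq : IsPullback γ h h' π)

/-- The comparison morphism, before transposition. -/
def psiAdj (F : EtCoh.Ab Zl) :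
    (EtCoh.push h').obj F ⟶ (EtCoh.push π).obj ((EtCoh.push h).obj ((EtCoh.pull γ).obj F)) :=
  (EtCoh.push h').map ((EtCoh.pullPushAdj γ).unit.app F) ≫ pushJoin γ h' (rfl : γ ≫ h' = γ ≫ h') _ ≫
    pushSplit h π sq.w.symm _

/-- The comparison morphism. -/
def theta (F : EtCoh.Ab Zl) :
    (EtCoh.pull π).obj ((EtCoh.push h').obj F) ⟶ (EtCoh.push h).obj ((EtCoh.pull γ).obj F) :=
  ((EtCoh.pullPushAdj π).homEquiv _ _).symm (psiAdj sq F)

theorem split_comp_join (V : Xl.Etale) :
    (split h π sq.w.symm).app V ≫ (join γ h' (rfl : γ ≫ h' = γ ≫ h')).app V =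
      Groth.L27.EtSite.BC.swap sq.w V := by
  refine hom_ext_bc_bc γ h' rfl ?_
  rw [Category.assoc, join_split, Category.comp_id]
  refine bc_hom_ext _ ((split_fstB h π sq.w.symm V).trans ?_)
  refine Eq.trans ?_ (Category.assoc _ _ _).symm
  refine Eq.trans ?_ (congrArg (_ ≫ ·) (split_fstB γ h' rfl V)).symm
  refine Eq.trans ?_ (Category.assoc _ _ _)
  refine Eq.trans ?_ (congrArg (· ≫ fstB h' V) (pullback.lift_fst _ _ _)).symm
  exact (pullback.lift_fst _ _ _).symm

include sq in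
theorem isIso_theta [IsIntegralHom h'] (F : EtCoh.Ab Zl) : IsIso (theta sq F) := by
  have key : ∀ (Ω : Type u) [Field Ω] [IsSepClosed Ω] (η' : Spec (CommRingCat.of Ω) ⟶ X),
      Function.Bijective ((EtCoh.stalk η').map (theta sq F)) := fun Ω _ _ η' => by
    refine Groth.L27.EtSite.BC.bijective_stalk sq η' F (theta sq F) fun V s => ?_
    rw [theta, Equiv.apply_symm_apply, Groth.L27.EtSite.BC.psi, ← split_comp_join sq V]
    refine (Functor.map_comp_apply ((EtCoh.pull γ).obj F).obj _ _ _).symm.trans ?_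
    exact congrArg (fun l => ((EtCoh.pull γ).obj F).obj.map l _) rfl
  haveI : Mono (theta sq F) := (Groth.L27.EtSite.mono_iff_stalks _).2 fun Ω _ _ η' => (key Ω η').1
  haveI : Epi (theta sq F) := (Groth.L27.EtSite.epi_iff_stalks _).2 fun Ω _ _ η' => (key Ω η').2
  exact isIso_of_mono_of_epi _

variable (A : AddCommGrpCat.{u + 1})

/-- The comparison for constant sheaves. -/
def thetaK : (EtCoh.pull π).obj ((EtCoh.push h').obj (K A Zl)) ⟶ (EtCoh.push h).obj (K A Z) :=
  theta sq (K A Zl) ≫ (EtCoh.push h).map ((EtCore.pullConstIso γ).hom.app A)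

theorem isIso_thetaK [IsIntegralHom h'] : IsIso (thetaK sq A) := by
  haveI := isIso_theta sq (K A Zl)
  unfold thetaK
  infer_instance

theorem homEquiv_thetaK :
    (EtCoh.pullPushAdj π).homEquiv _ _ (thetaK sq A) =
      (EtCoh.push h').map (cmp A γ) ≫ pushJoin γ h' (rfl : γ ≫ h' = γ ≫ h') _ ≫
        pushSplit h π sq.w.symm _ := by
  rw [thetaK, Adjunction.homEquiv_naturality_right, theta, Equiv.apply_symm_apply, psiAdj]
  simp only [Category.assoc]
  rw [← pushSplit_naturality, ← Category.assoc (pushJoin _ _ _ _), ← pushJoin_naturality]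
  exact assoc₄ ((EtCoh.push h').map_comp _ _).symm

end Square

section Over

variable {Xj X Xl Z Zl : Scheme.{u}} {h : Z ⟶ X} {h' : Zl ⟶ Xl} {γ : Z ⟶ Zl} {π : X ⟶ Xl} {t : Xl ⟶ Xj}
  {πj : X ⟶ Xj} (w : π ≫ t = πj) {hh : Zl ⟶ Xj} (wh : h' ≫ t = hh) {ν : Z ⟶ Xj} (wν : γ ≫ hh = ν)
  (wν' : h ≫ πj = ν) (sq : IsPullback γ h h' π)

include sq w wh in
theorem coherence (M : EtCoh.Ab Z) :
    pushSplit h' t wh ((EtCoh.push γ).obj M) ≫
      (EtCoh.push t).map (pushJoin γ h' (rfl : γ ≫ h' = γ ≫ h') M ≫ pushSplit h π sq.w.symm M) ≫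
        pushJoin π t w ((EtCoh.push h).obj M) =
      pushJoin γ hh wν M ≫ pushSplit h πj wν' M := by
  have wk : (γ ≫ h') ≫ t = ν := by rw [Category.assoc, wh, wν]
  have e1 : pushSplit h' t wh ((EtCoh.push γ).obj M) ≫ (EtCoh.push t).map (pushJoin γ h' rfl M) =
      pushJoin γ hh wν M ≫ pushSplit (γ ≫ h') t wk M := by
    have h1 := pushJoin_assoc γ h' t (rfl : γ ≫ h' = γ ≫ h') wh wk wν M
    refine Eq.trans ?_ (congrArg (fun m => pushSplit h' t wh _ ≫ m ≫ pushSplit (γ ≫ h') t wk M) h1 |>.trans ?_)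
    · rw [Category.assoc, pushJoin_pushSplit, Category.comp_id]
    · rw [← Category.assoc, ← Category.assoc (pushSplit h' t wh _), pushSplit_pushJoin, Category.id_comp]
  rw [Functor.map_comp]
  simp only [Category.assoc]
  rw [← Category.assoc, e1, Category.assoc,
    pushSplit_assoc h π t sq.w.symm w wk wν' M]

variable (A : AddCommGrpCat.{u + 1}) (F : EtCoh.Ab Xj)

include w wν wν' in
/-- A morphism to a finite pushforward coming from a stage. -/
theorem eq_stage (φ : (EtCoh.pull πj).obj F ⟶ (EtCoh.push h).obj (K A Z)) (φ' : F ⟶ (EtCoh.push hh).obj (K A Zl))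
    (hφ : φ' ≫ (EtCoh.push hh).map (cmp A γ) ≫ pushJoin γ hh wν (K A Z) =
      (EtCoh.pullPushAdj πj).homEquiv _ _ φ ≫ pushJoin h πj wν' (K A Z)) :
    φ = gamma π t w F ≫ (EtCoh.pull π).map (((EtCoh.pullPushAdj t).homEquiv _ _).symm (φ' ≫ pushSplit h' t wh _)) ≫
      thetaK sq A := by
  refine ((EtCoh.pullPushAdj πj).homEquiv _ _).injective ?_
  rw [show thetaK sq A = ((EtCoh.pullPushAdj π).homEquiv _ _).symm ((EtCoh.pullPushAdj π).homEquiv _ _ (thetaK sq A))
      from (Equiv.symm_apply_apply _ _).symm, homEquiv_gamma_comp, homEquiv_thetaK]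
  rw [Functor.map_comp]
  simp only [Category.assoc]
  rw [← Category.assoc (pushSplit h' t wh _), ← pushSplit_naturality, Category.assoc,
    coherence w wh wν wν' sq, ← Category.assoc ((EtCoh.push hh).map _), ← Category.assoc φ', hφ, Category.assoc,
    pushJoin_pushSplit, Category.comp_id]

include w wh wν wν' sq in
/-- The kernel of such a morphism comes from the stage. -/
theorem exists_kernel_iso [IsIntegralHom h'] (φ : (EtCoh.pull πj).obj F ⟶ (EtCoh.push h).obj (K A Z))
    (φ' : F ⟶ (EtCoh.push hh).obj (K A Zl))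
    (hφ : φ' ≫ (EtCoh.push hh).map (cmp A γ) ≫ pushJoin γ hh wν (K A Z) =
      (EtCoh.pullPushAdj πj).homEquiv _ _ φ ≫ pushJoin h πj wν' (K A Z)) :
    ∃ φl : (EtCoh.pull t).obj F ⟶ (EtCoh.push h').obj (K A Zl),
      Nonempty (kernel φ ≅ (EtCoh.pull π).obj (kernel φl)) := by
  let φl := ((EtCoh.pullPushAdj t).homEquiv _ _).symm (φ' ≫ pushSplit h' t wh _)
  have e := eq_stage w wh wν wν' sq A F φ φ' hφ
  haveI := isIso_thetaK sq A
  haveI : IsIso (gamma π t w F) := by
    rw [(Iso.comp_hom_eq_id _).1 (gamma_inv F π t w)]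
    infer_instance
  haveI := Groth.L27.EtSite.preservesFiniteLimits_pull π
  haveI : (EtCoh.pull π).Additive := (EtCoh.pullPushAdj π).left_adjoint_additive
  exact ⟨φl, ⟨kernelIsoOfEq e ≪≫ kernelIsIsoComp _ _ ≪≫ kernelCompMono _ _ ≪≫
    (PreservesKernel.iso (EtCoh.pull π) φl).symm⟩⟩

end Over

end Groth.L23.PFin
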