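import Groth.Agent.L23.PFin.Generic
import Groth.Agent.L23.PFin.StageCoh
import Groth.Agent.L27.EmbedFinitePush.Main
import Groth.Agent.L05.DescendFP
import Groth.Agent.L19.Limit.Finite
import Groth.Agent.L19.Limit.BaseChange

/-!
# Constructible sheaves on a limit come from a stage
-/

set_option autoImplicit false
set_option linter.style.haveILetI false
set_option linter.unusedSectionVars false
set_option backward.isDefEq.respectTransparency false
set_option backward.isDefEq.respectTransparency.types false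

universe u

open CategoryTheory CategoryTheory.Limits AlgebraicGeometry Opposite
open Groth.L19.Limit

noncomputable section

namespace Groth.L23.PFin

open Groth.L27.LimCoh Groth.L27.ConstSect

theorem cons_pull' {A B : Scheme.{u}} (a : A ⟶ B) {F : EtCoh.Ab B} (h : Cons B F) :
    Cons A ((EtCoh.pull a).obj F) :=
  haveI : (EtCoh.pull a).Additive := (EtCoh.pullPushAdj a).left_adjoint_additive
  ⟨Groth.L28.ExtShriek.isConstructible_pull a h.1, h.2.choose, h.2.choose_spec.1,
    nsmul_id_map (EtCoh.pull a) h.2.choose_spec.2⟩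

/-- Kernels stay in the class. -/
theorem cons_kernel {X : Scheme.{u}} {F G : EtCoh.Ab X} (φ : F ⟶ G) (hF : Cons X F) (hG : Cons X G) :
    Cons X (kernel φ) := by
  obtain ⟨hFc, n, hn, hk⟩ := hF
  refine ⟨(Groth.L28.Strata.isConstructible_kernel_cokernel φ hFc hG.1).1, n, hn, ?_⟩
  rw [← cancel_mono (kernel.ι φ), zero_comp, Preadditive.nsmul_comp, Category.id_comp,
    ← Category.comp_id (kernel.ι φ), ← Preadditive.comp_nsmul, hk, comp_zero]

/-- Finite sums stay in the class. -/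
theorem cons_biproduct {X : Scheme.{u}} {m : ℕ} (G : Fin m → EtCoh.Ab X) (h : ∀ i, Cons X (G i)) :
    Cons X (⨁ G) := by
  classical
  choose hc n hn hk using h
  refine ⟨Groth.L28.ExtShriek.isConstructible_biproduct G hc, ∏ i, n i, Finset.prod_pos fun i _ => hn i,
    biproduct.hom_ext _ _ fun j => ?_⟩
  obtain ⟨a, ha⟩ := Finset.dvd_prod_of_mem n (Finset.mem_univ j)
  rw [zero_comp, Preadditive.nsmul_comp, Category.id_comp, ← Category.comp_id (biproduct.π G j),
    ← Preadditive.comp_nsmul, ha, mul_comm, mul_nsmul', hk, smul_zero, comp_zero]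

theorem cons_push_const {X Y : Scheme.{u}} (f : Y ⟶ X) [IsFinite f] [LocallyOfFinitePresentation f] (M : Type)
    [AddCommGroup M] [Finite M] : Cons X ((EtCoh.push f).obj (EtCoh.const Y M)) :=
  haveI : (EtCoh.push f).Additive := (EtCoh.pullPushAdj f).right_adjoint_additive
  ⟨Groth.L28.FinitePush.isConstructible_push f
      (Groth.L28.FinitePush.isConstructible_of_isFLC (Groth.L28.ExtShriek.isFLC_const Y M)),
    Nat.card M, Nat.card_pos, nsmul_id_map (EtCoh.push f)
      (Groth.L28.Transfer.nsmul_id (Groth.L27.ProperH1.killedBy_const (Y := Y) M))⟩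

variable {I : Type u} [SmallCategory I] [IsCofiltered I] {D : I ⥤ Scheme.{u}} (c : Cone D)
  [∀ {i j : I} (f : i ⟶ j), IsAffineHom (D.map f)] [∀ i, CompactSpace (D.obj i)]
  [∀ i, QuasiSeparatedSpace (D.obj i)]

/-- Sheaves coming from a constructible sheaf killed by an integer on some stage. -/
def Desc (F : EtCoh.Ab c.pt) : Prop :=
  ∃ (j : I) (G : EtCoh.Ab (D.obj j)), Cons (D.obj j) G ∧ Nonempty (F ≅ (EtCoh.pull (c.π.app j)).obj G)

variable {c}

theorem desc_of_iso {F G : EtCoh.Ab c.pt} (e : F ≅ G) (h : Desc c F) : Desc c G := by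
  obtain ⟨j, H, hH, ⟨i⟩⟩ := h
  exact ⟨j, H, hH, ⟨e.symm ≪≫ i⟩⟩

/-- Passing to a further stage. -/
theorem nonempty_pull_stage {j l : I} (g : l ⟶ j) (G : EtCoh.Ab (D.obj j)) :
    Nonempty ((EtCoh.pull (c.π.app j)).obj G ≅
      (EtCoh.pull (c.π.app l)).obj ((EtCoh.pull (D.map g)).obj G)) :=
  ⟨(EtCore.pullCongr (c.w g)).symm.app G ≪≫ (EtCore.pullComp (c.π.app l) (D.map g)).app G⟩

theorem exists_common {m : ℕ} (j : Fin m → I) : ∃ l : I, ∀ i, Nonempty (l ⟶ j i) := by
  classical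
  obtain ⟨l, hl⟩ := IsCofiltered.inf_objs_exists (Finset.univ.image j)
  exact ⟨l, fun i => hl (Finset.mem_image_of_mem j (Finset.mem_univ i))⟩

theorem desc_biproduct {m : ℕ} (F : Fin m → EtCoh.Ab c.pt) (h : ∀ i, Desc c (F i)) : Desc c (⨁ F) := by
  choose j G hG e using h
  obtain ⟨l, hl⟩ := exists_common j
  have g : ∀ i, l ⟶ j i := fun i => (hl i).some
  let G' : Fin m → EtCoh.Ab (D.obj l) := fun i => (EtCoh.pull (D.map (g i))).obj (G i)
  haveI : (EtCoh.pull (c.π.app l)).Additive := (EtCoh.pullPushAdj _).left_adjoint_additive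
  haveI : PreservesFiniteBiproducts (EtCoh.pull (c.π.app l)) := inferInstance
  refine ⟨l, ⨁ G', cons_biproduct G' fun i => cons_pull' _ (hG i), ⟨?_⟩⟩
  exact biproduct.mapIso (fun i => (e i).some ≪≫ (nonempty_pull_stage (g i) (G i)).some) ≪≫
    ((EtCoh.pull (c.π.app l)).mapBiproduct G').symm

/-- Finite morphisms of finite presentation come from a stage. -/
theorem exists_finite_model (hc : IsLimit c) {Z : Scheme.{u}} (h : Z ⟶ c.pt) [IsFinite h]
    [LocallyOfFinitePresentation h] :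
    ∃ (j : I) (Zj : Scheme.{u}) (h' : Zj ⟶ D.obj j) (γ : Z ⟶ Zj),
      IsFinite h' ∧ LocallyOfFinitePresentation h' ∧ IsPullback γ h h' (c.π.app j) := by
  obtain ⟨i, Zi, fi, g, hlfp, hqc, hqs, sq⟩ := Groth.L05.DescendFP.exists_stage hc h
  obtain ⟨k, φ, hfin⟩ := descends_isFinite hc (i := i) fi
    (show qcqsft fi from ⟨⟨hqc, hqs⟩, inferInstance⟩) ((pb_iff_of_isPullback sq).1 ‹IsFinite h›)
  refine ⟨k, pullback (D.map φ) fi, pullback.fst (D.map φ) fi,
    pullback.lift (h ≫ c.π.app k) g (by rw [Category.assoc, c.w]; exact sq.w.symm), hfin,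
    MorphismProperty.pullback_fst _ _ hlfp, ?_⟩
  refine IsPullback.of_right ?_ (pullback.lift_fst _ _ _) (IsPullback.of_hasPullback (D.map φ) fi).flip
  rw [pullback.lift_snd, c.w]
  exact sq

/-- The model of the target. -/
theorem desc_push_const (hc : IsLimit c) {Z : Scheme.{u}} (h : Z ⟶ c.pt) [IsFinite h]
    [LocallyOfFinitePresentation h] (M : Type) [AddCommGroup M] [Finite M] :
    Desc c ((EtCoh.push h).obj (EtCoh.const Z M)) := by
  obtain ⟨j, Zj, h', γ, hf, hlfp, sq⟩ := exists_finite_model hc h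
  haveI := hf
  haveI := hlfp
  haveI := isIso_thetaK sq (AddCommGrpCat.of (ULift.{u + 1} M))
  exact ⟨j, (EtCoh.push h').obj (EtCoh.const Zj M), cons_push_const h' M,
    ⟨(asIso (thetaK sq (AddCommGrpCat.of (ULift.{u + 1} M)))).symm⟩⟩

/-- Kernels of maps to finite pushforwards of constant sheaves come from a stage. -/
theorem desc_kernel (hc : IsLimit c) {Z : Scheme.{u}} (h : Z ⟶ c.pt) [IsFinite h]
    [LocallyOfFinitePresentation h] (M : Type) [AddCommGroup M] [Finite M] {F : EtCoh.Ab c.pt}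
    (hF : Desc c F) (φ : F ⟶ (EtCoh.push h).obj (EtCoh.const Z M)) : Desc c (kernel φ) := by
  let A : AddCommGrpCat.{u + 1} := AddCommGrpCat.of (ULift.{u + 1} M)
  obtain ⟨j₁, G, hG, ⟨eG⟩⟩ := hF
  obtain ⟨j₂, Z₂, h₂, γ₂, hf₂, hlfp₂, sq₂⟩ := exists_finite_model hc h
  haveI := hf₂
  haveI := hlfp₂
  let j := IsCofiltered.min j₁ j₂
  let a₁ : j ⟶ j₁ := IsCofiltered.minToLeft j₁ j₂
  let a₂ : j ⟶ j₂ := IsCofiltered.minToRight j₁ j₂
  let Gj := (EtCoh.pull (D.map a₁)).obj G
  have hGj : Cons (D.obj j) Gj := cons_pull' _ hG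
  obtain ⟨eGj⟩ := nonempty_pull_stage (c := c) a₁ G
  let Zj := pullback (D.map a₂) h₂
  let hj : Zj ⟶ D.obj j := pullback.fst (D.map a₂) h₂
  haveI : IsFinite hj := MorphismProperty.pullback_fst (P := @IsFinite) _ _ hf₂
  haveI : LocallyOfFinitePresentation hj := MorphismProperty.pullback_fst _ _ hlfp₂
  let γj : Z ⟶ Zj := pullback.lift (h ≫ c.π.app j) γ₂ (by rw [Category.assoc, c.w]; exact sq₂.w.symm)
  have sqj : IsPullback γj h hj (c.π.app j) := by
    refine IsPullback.of_right ?_ (pullback.lift_fst _ _ _) (IsPullback.of_hasPullback (D.map a₂) h₂).flip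
    rw [pullback.lift_snd, c.w]
    exact sq₂
  -- the diagram over the stage
  let E := bcDiagram D hj
  let cE := bcCone D c hj
  have hcE : IsLimit cE := isLimitBcCone hj hc
  haveI : ∀ k : Over j, CompactSpace (E.obj k) := fun k =>
    QuasiCompact.compactSpace_of_compactSpace (X := pullback (D.map k.hom) hj) (pullback.fst (D.map k.hom) hj)
  haveI : ∀ k : Over j, QuasiSeparatedSpace (E.obj k) := fun k =>
    quasiSeparatedSpace_of_quasiSeparated (X := pullback (D.map k.hom) hj) (pullback.fst (D.map k.hom) hj)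
  haveI : ∀ k : Over j, IsFinite (pullback.fst (D.map k.hom) hj) := fun k =>
    MorphismProperty.pullback_fst (P := @IsFinite) _ _ inferInstance
  haveI : ∀ (k l : Over j) (f : k ⟶ l), IsAffineHom (E.map f) := fun k l f => inferInstance
  let hh : ∀ k : Over j, E.obj k ⟶ D.obj j := fun k => pullback.fst (D.map k.hom) hj ≫ D.map k.hom
  haveI : ∀ k : Over j, IsAffineHom (hh k) := fun k => inferInstanceAs (IsAffineHom (_ ≫ _))
  have hwh : ∀ {k l : Over j} (f : l ⟶ k), E.map f ≫ hh k = hh l := fun {k l} f => by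
    have h1 : E.map f ≫ pullback.fst (D.map k.hom) hj = pullback.fst (D.map l.hom) hj ≫ D.map f.left := by
      simp [E, bcDiagram]
    show E.map f ≫ pullback.fst (D.map k.hom) hj ≫ D.map k.hom = pullback.fst (D.map l.hom) hj ≫ D.map l.hom
    rw [← Category.assoc, h1, Category.assoc, ← D.map_comp, Over.w f]
  let P := pullback (c.π.app j) hj
  let h₀ : P ⟶ c.pt := pullback.fst (c.π.app j) hj
  let ν : cE.pt ⟶ D.obj j := h₀ ≫ c.π.app j
  have hcν : ∀ k : Over j, prj cE k ≫ hh k = ν := fun k => by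
    show cE.π.app k ≫ pullback.fst (D.map k.hom) hj ≫ D.map k.hom = h₀ ≫ c.π.app j
    rw [← Category.assoc, show cE.π.app k ≫ pullback.fst (D.map k.hom) hj = h₀ ≫ c.π.app k.left from
      (isPullback_bcCone D c hj k).w, Category.assoc, c.w]
  -- the morphism on the canonical base change
  have sqP : IsPullback (pullback.snd (c.π.app j) hj) h₀ hj (c.π.app j) :=
    (IsPullback.of_hasPullback (c.π.app j) hj).flip
  haveI := isIso_thetaK sqj A
  haveI := isIso_thetaK sqP A
  let eT : (EtCoh.push h).obj (EtCoh.const Z M) ≅ (EtCoh.push h₀).obj (K A P) :=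
    (asIso (thetaK sqj A)).symm ≪≫ asIso (thetaK sqP A)
  let φ₀ : (EtCoh.pull (c.π.app j)).obj Gj ⟶ (EtCoh.push h₀).obj (K A P) := (eG ≪≫ eGj).inv ≫ φ ≫ eT.hom
  let L := Groth.L27.EmbedFinitePush.constCocn A E cE
  obtain ⟨k, φ', hφ'⟩ := Groth.L27.EmbedFinitePush.exists_factor hh hwh hcν L
    (Groth.L27.EmbedFinitePush.isLim_constCocn A E cE hcE) hGj.1
    ((EtCoh.pullPushAdj (c.π.app j)).homEquiv _ _ φ₀ ≫ pushJoin h₀ (c.π.app j) rfl (K A P))
  let l := k.unop.left
  let hl : E.obj k.unop ⟶ D.obj l := pullback.fst (D.map k.unop.hom) hj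
  have sql : IsPullback (cE.π.app k.unop) h₀ hl (c.π.app l) := isPullback_bcCone D c hj k.unop
  haveI : IsFinite hl := ‹∀ k : Over j, IsFinite (pullback.fst (D.map k.hom) hj)› k.unop
  haveI : LocallyOfFinitePresentation hl :=
    MorphismProperty.pullback_fst (D.map k.unop.hom) hj ‹LocallyOfFinitePresentation hj›
  obtain ⟨φl, ⟨eK⟩⟩ := exists_kernel_iso (t := D.map k.unop.hom) (c.w k.unop.hom) (hh := hh k.unop) rfl
    (ν := ν) (hcν k.unop) rfl sql A Gj φ₀ φ' hφ'
  refine ⟨l, kernel φl, cons_kernel φl (cons_pull' _ hGj) (cons_push_const hl M), ⟨?_⟩⟩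
  exact ((kernelIsIsoComp (eG ≪≫ eGj).inv (φ ≫ eT.hom)) ≪≫ kernelCompMono φ eT.hom).symm ≪≫ eK

/-- Kernels of maps to finite sums come from a stage. -/
theorem desc_kernel_lift (hc : IsLimit c) {F : EtCoh.Ab c.pt} (hF : Desc c F) {m : ℕ} (Z : Fin m → Scheme.{u})
    (h : ∀ i, Z i ⟶ c.pt) [∀ i, IsFinite (h i)] [∀ i, LocallyOfFinitePresentation (h i)] (M : Fin m → Type)
    [∀ i, AddCommGroup (M i)] [∀ i, Finite (M i)]
    (φ : ∀ i, F ⟶ (EtCoh.push (h i)).obj (EtCoh.const (Z i) (M i))) :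
    Desc c (kernel (biproduct.lift φ)) := by
  classical
  suffices H : ∀ s : Finset (Fin m), ∃ (K : EtCoh.Ab c.pt) (ι : K ⟶ F), Mono ι ∧ Desc c K ∧
      (∀ i ∈ s, ι ≫ φ i = 0) ∧
        ∀ {T : EtCoh.Ab c.pt} (g : T ⟶ F), (∀ i ∈ s, g ≫ φ i = 0) → ∃ g', g' ≫ ι = g by
    obtain ⟨K, ι, hι, hK, h0, hu⟩ := H Finset.univ
    haveI := hι
    have hι0 : ι ≫ biproduct.lift φ = 0 := biproduct.hom_ext _ _ fun i => by
      rw [Category.assoc, biproduct.lift_π, h0 i (Finset.mem_univ i), zero_comp]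
    obtain ⟨g', hg'⟩ := hu (kernel.ι (biproduct.lift φ)) fun i _ => by
      rw [← biproduct.lift_π φ i, kernel.condition_assoc, zero_comp]
    refine desc_of_iso ⟨kernel.lift _ ι hι0, g', ?_, ?_⟩ hK
    · rw [← cancel_mono ι, Category.assoc, hg', kernel.lift_ι, Category.id_comp]
    · rw [← cancel_mono (kernel.ι (biproduct.lift φ)), Category.assoc, kernel.lift_ι, hg', Category.id_comp]
  intro s
  induction s using Finset.induction with
  | empty => exact ⟨F, 𝟙 F, inferInstance, hF, by simp, fun g _ => ⟨g, Category.comp_id g⟩⟩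
  | insert a s ha ih =>
    obtain ⟨K, ι, hι, hK, h0, hu⟩ := ih
    haveI := hι
    refine ⟨kernel (ι ≫ φ a), kernel.ι _ ≫ ι, mono_comp _ _, desc_kernel hc (h a) (M a) hK _,
      fun i hi => ?_, fun g hg => ?_⟩
    · rcases Finset.mem_insert.1 hi with rfl | hi
      · rw [Category.assoc, kernel.condition]
      · rw [Category.assoc, h0 i hi, comp_zero]
    · obtain ⟨g', hg'⟩ := hu g fun i hi => hg i (Finset.mem_insert_of_mem hi)
      refine ⟨kernel.lift _ g' (by rw [← Category.assoc, hg']; exact hg a (Finset.mem_insert_self a s)), ?_⟩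
      rw [kernel.lift_ι_assoc, hg']

/-- Constructible sheaves on a limit come from a stage. -/
theorem desc_of_isConstructible (hc : IsLimit c) [CompactSpace c.pt] [QuasiSeparatedSpace c.pt]
    {F : EtCoh.Ab c.pt} (hF : EtPBC.IsConstructible F) : Desc c F := by
  obtain ⟨m, Y, f, hf, hf', M, iM, fM, ι, hι⟩ := Groth.L27.EmbedFinitePush.exists_embedding hF
  haveI := hf; haveI := hf'; haveI := hι
  let A := ⨁ fun i => (EtCoh.push (f i)).obj (EtCoh.const (Y i) (M i))
  have hA : Desc c A := desc_biproduct _ fun i => desc_push_const hc (f i) (M i)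
  obtain ⟨j, G, hG, ⟨eA⟩⟩ := hA
  have hAc : EtPBC.IsConstructible A :=
    Groth.L28.Transfer.isConstructible_of_iso eA.symm (cons_pull' (c.π.app j) hG).1
  have hC : EtPBC.IsConstructible (cokernel ι) := (Groth.L28.Strata.isConstructible_kernel_cokernel ι hF hAc).2
  obtain ⟨n, Z, h, hh, hh', N, iN, fN, κ, hκ⟩ := Groth.L27.EmbedFinitePush.exists_embedding hC
  haveI := hh; haveI := hh'; haveI := hκ
  let φ := fun i => cokernel.π ι ≫ κ ≫ biproduct.π (fun i => (EtCoh.push (h i)).obj (EtCoh.const (Z i) (N i))) i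
  have e : biproduct.lift φ = cokernel.π ι ≫ κ :=
    biproduct.hom_ext _ _ fun i => by rw [biproduct.lift_π, Category.assoc]
  refine desc_of_iso ?_ (desc_kernel_lift hc ⟨j, G, hG, ⟨eA⟩⟩ Z h N φ)
  exact kernelIsoOfEq e ≪≫ kernelCompMono _ κ ≪≫
    ((Abelian.monoIsKernelOfCokernel _ (cokernelIsCokernel ι)).conePointUniqueUpToIso
      (kernelIsKernel (cokernel.π ι))).symm

end Groth.L23.PFin
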