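import Groth.Agent.L23.PFin.Proper
import Groth.Agent.L23.PFin.DescStage
import Groth.Agent.L05.ModelFG
import Groth.Agent.L19.Limit.Proper

/-!
# Constructibility of proper direct images over an arbitrary base
-/

set_option autoImplicit false
set_option linter.style.haveILetI false
set_option linter.unusedSectionVars false
set_option backward.isDefEq.respectTransparency false
set_option backward.isDefEq.respectTransparency.types false

universe u

open CategoryTheory CategoryTheory.Limits AlgebraicGeometry Opposite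
open Groth.L19.Limit

noncomputable section

namespace Groth.L23.PFin

/-- Base change of constructibility along a pullback square. -/
theorem isConstructible_Rpush_of_isPullback {X S X' S' : Scheme.{u}} {f : X ⟶ S} {g : S' ⟶ S} {f' : X' ⟶ S'}
    {g' : X' ⟶ X} (sq : IsPullback g' f' f g) [IsProper f] (F : EtCoh.Ab X) (hF : EtCoh.IsTorsion F) (q : ℕ)
    {F' : EtCoh.Ab X'} (e : (EtCoh.pull g').obj F ≅ F') (h : EtPBC.IsConstructible ((EtCoh.Rpush f q).obj F)) :
    EtPBC.IsConstructible ((EtCoh.Rpush f' q).obj F') := by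
  haveI := Groth.L27.EtSite.preservesFiniteLimits_pull g'
  haveI := Groth.L27.PBC.isIso_bcQ f g f' g' sq q F hF
  exact Groth.L28.Transfer.isConstructible_of_iso (asIso (EtBC.bcQ f g f' g' sq.w q F) ≪≫
    (EtCoh.Rpush f' q).mapIso e) (Groth.L28.ExtShriek.isConstructible_pull g h)

theorem isConstructible_Rpush_affine {R : Type u} [CommRing R] {X : Scheme.{u}}
    (f : X ⟶ Spec (CommRingCat.of R)) [IsProper f] [LocallyOfFinitePresentation f] (F : EtCoh.Ab X)
    (hF : EtPBC.IsConstructible F) (q : ℕ) : EtPBC.IsConstructible ((EtCoh.Rpush f q).obj F) := by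
  let D := Groth.L05.ModelFG.specDiagram R
  let c := Groth.L05.ModelFG.specCone R
  have hc : IsLimit c := Groth.L05.ModelFG.isLimitSpecCone R
  haveI : ∀ i, CompactSpace (D.obj i) := fun i => inferInstanceAs (CompactSpace (Spec _))
  haveI : ∀ i, QuasiSeparatedSpace (D.obj i) := fun i => inferInstanceAs (QuasiSeparatedSpace (Spec _))
  haveI hnoe : ∀ i, AlgebraicGeometry.IsNoetherian (D.obj i) := fun i => by
    haveI : Algebra.FiniteType ℤ i.unop.1 := (Subalgebra.fg_iff_finiteType _).1 i.unop.2
    haveI : IsNoetherianRing i.unop.1 := Algebra.FiniteType.isNoetherianRing ℤ _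
    exact inferInstanceAs (AlgebraicGeometry.IsNoetherian (Spec (CommRingCat.of i.unop.1)))
  haveI : LocallyOfFinitePresentation (X := X) (Y := c.pt) f := ‹LocallyOfFinitePresentation f›
  haveI : IsProper (X := X) (Y := c.pt) f := ‹IsProper f›
  obtain ⟨i, Xi, fi, g, hlfp, hqc, hqs, sq⟩ := Groth.L05.DescendFP.exists_stage hc (X := X) f
  haveI := hlfp
  haveI := hqc
  haveI := hqs
  haveI : CompactSpace Xi := QuasiCompact.compactSpace_of_compactSpace fi
  haveI : QuasiSeparatedSpace Xi := quasiSeparatedSpace_of_quasiSeparated fi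
  obtain ⟨j, hj⟩ := exists_isProper (g₀ := 𝟙 (D.obj i)) (f₀ := fi) (qY := c.π.app i) (g := 𝟙 c.pt) hc
    IsPullback.of_id_snd sq
  let a₀ := fi ≫ 𝟙 (D.obj i)
  let a : pullback (D.map j.hom) a₀ ⟶ D.obj j.left := pullback.fst (D.map j.hom) a₀
  haveI := hj
  haveI : IsProper a := by
    haveI : IsProper (stageHom (D := D) fi (𝟙 (D.obj i)) j ≫ pullback.fst (D.map j.hom) (𝟙 (D.obj i))) := inferInstance
    rw [stageHom_fst] at this
    exact this
  let gj : X ⟶ pullback (D.map j.hom) a₀ :=
    pullback.lift (f ≫ c.π.app j.left) g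
      (by rw [Category.assoc, c.w]; exact sq.w.symm.trans (congrArg (g ≫ ·) (Category.comp_id fi).symm))
  have sqj : IsPullback gj f a (c.π.app j.left) := by
    refine IsPullback.of_right ?_ (pullback.lift_fst _ _ _) (IsPullback.of_hasPullback (D.map j.hom) a₀).flip
    rw [pullback.lift_snd, c.w, show a₀ = fi from Category.comp_id fi]
    exact sq
  let E := bcDiagram D a
  let cE := bcCone D c a
  have hcE : IsLimit cE := isLimitBcCone a hc
  haveI : ∀ k : Over j.left, CompactSpace (E.obj k) := fun k =>
    QuasiCompact.compactSpace_of_compactSpace (X := pullback (D.map k.hom) a) (pullback.fst (D.map k.hom) a)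
  haveI : ∀ k : Over j.left, QuasiSeparatedSpace (E.obj k) := fun k =>
    quasiSeparatedSpace_of_quasiSeparated (X := pullback (D.map k.hom) a) (pullback.fst (D.map k.hom) a)
  haveI : ∀ (k l : Over j.left) (φ : k ⟶ l), IsAffineHom (E.map φ) := fun k l φ => inferInstance
  let fP : cE.pt ⟶ c.pt := pullback.fst (c.π.app j.left) a
  haveI : IsProper fP := MorphismProperty.pullback_fst (P := @IsProper) _ _ inferInstance
  haveI : CompactSpace c.pt := inferInstanceAs (CompactSpace (Spec _))
  haveI : QuasiSeparatedSpace c.pt := inferInstanceAs (QuasiSeparatedSpace (Spec _))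
  haveI : CompactSpace cE.pt := QuasiCompact.compactSpace_of_compactSpace fP
  haveI : QuasiSeparatedSpace cE.pt := quasiSeparatedSpace_of_quasiSeparated fP
  let e : X ≅ cE.pt := sqj.flip.isoPullback
  have hef : e.hom ≫ fP = f := sqj.flip.isoPullback_hom_fst
  let F' := (EtCoh.pull e.inv).obj F
  obtain ⟨k, G, hG, ⟨eG⟩⟩ := desc_of_isConstructible hcE (Groth.L28.ExtShriek.isConstructible_pull e.inv hF :
    EtPBC.IsConstructible F')
  let fk : E.obj k ⟶ D.obj k.left := pullback.fst (D.map k.hom) a
  haveI : IsProper fk := MorphismProperty.pullback_fst (P := @IsProper) _ _ inferInstance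
  haveI : AlgebraicGeometry.IsNoetherian (E.obj k) := isNoetherian_of_lft fk
  haveI : IsProper ((bcFst D a).app k) := ‹IsProper fk›
  have h1 : EtPBC.IsConstructible ((EtCoh.Rpush fP q).obj F') :=
    isConstructible_Rpush_of_isPullback (isPullback_bcCone D c a k) G (isTorsion_of_cons hG) q eG.symm
      (good_proper fk G hG q).1
  have hF't : EtCoh.IsTorsion F' := isTorsion_of_cons
    (cons_of_iso eG.symm (cons_pull' _ hG))
  have e2 : (EtCoh.pull e.hom).obj F' ≅ F :=
    ((EtCore.pullComp e.hom e.inv).app F).symm ≪≫ (EtCore.pullCongr e.hom_inv_id).app F ≪≫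
      (Adjunction.leftAdjointUniq ((EtCoh.pullPushAdj (𝟙 X)).ofNatIsoRight Groth.L27.LimBC.pushId.symm)
        Adjunction.id).app F
  exact isConstructible_Rpush_of_isPullback (f := fP) (g := 𝟙 c.pt)
    (IsPullback.of_horiz_isIso ⟨by rw [hef, Category.comp_id]⟩) F' hF't q e2 h1

/-- Proper direct images of constructible torsion sheaves are constructible. -/
theorem isConstructible_Rpush {X S : Scheme.{u}} (f : X ⟶ S) [IsProper f] [LocallyOfFinitePresentation f]
    (F : EtCoh.Ab X) (hF : EtPBC.IsConstructible F) (ht : EtCoh.IsTorsion F) (q : ℕ) :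
    EtPBC.IsConstructible ((EtCoh.Rpush f q).obj F) := by
  rw [Groth.L28.Strata.isConstructible_iff]
  refine Groth.L28.Strata.loc_of_cover (Groth.L28.Strata.stable_lcPred _) (fun U : S.affineOpens => U.1)
    (iSup_affineOpens_eq_top S) fun U => ?_
  refine ((Groth.L28.Strata.isConstructible_iff _).1 ?_).mono fun T g hg =>
    (Groth.L28.Strata.lcPred_comp ((EtCoh.Rpush f q).obj F) U.1.ι g).1 hg
  let j := U.2.fromSpec
  let fR := pullback.snd f j
  haveI : IsProper fR := MorphismProperty.pullback_snd (P := @IsProper) _ _ inferInstance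
  haveI : LocallyOfFinitePresentation fR := MorphismProperty.pullback_snd _ _ inferInstance
  have h := isConstructible_Rpush_affine fR ((EtCoh.pull (pullback.fst f j)).obj F)
    (Groth.L28.ExtShriek.isConstructible_pull _ hF) q
  haveI := Groth.L27.EtSite.preservesFiniteLimits_pull (pullback.fst f j)
  haveI := Groth.L27.PBC.isIso_bcQ f j fR (pullback.fst f j) (IsPullback.of_hasPullback f j) q F ht
  have h' := Groth.L28.Transfer.isConstructible_of_iso
    (asIso (EtBC.bcQ f j fR (pullback.fst f j) (IsPullback.of_hasPullback f j).w q F)).symm h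
  exact Groth.L28.Transfer.isConstructible_of_iso
    (((EtCore.pullComp U.2.isoSpec.hom j).app _).symm ≪≫ (EtCore.pullCongr U.2.isoSpec_hom_fromSpec).app _)
    (Groth.L28.ExtShriek.isConstructible_pull U.2.isoSpec.hom h')

end Groth.L23.PFin
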