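import Groth.Agent.L28.Spz.Criteria

/-!
# Sheaves whose stalks are at most as large as the generic one
-/

set_option autoImplicit false
set_option linter.style.haveILetI false
set_option linter.unusedSectionVars false
set_option backward.isDefEq.respectTransparency.types false

universe u

open CategoryTheory CategoryTheory.Limits AlgebraicGeometry Opposite

namespace Groth.L23.PFin

open Groth.L28.Spz

theorem exists_open_isFLC_of_card_le {T : Scheme.{u}} [AlgebraicGeometry.IsNoetherian T] [IrreducibleSpace T]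
    (G : EtCoh.Ab T)
    (hfin : ∀ (Ω : Type u) [Field Ω] [IsSepClosed Ω] (ξ : Spec (CommRingCat.of Ω) ⟶ T),
      Finite ((EtCoh.stalk ξ).obj G))
    (W : T.Opens) (hW : genericPoint T ∈ W)
    (hle : ∀ (Ω : Type u) [Field Ω] [IsSepClosed Ω] (ξ : Spec (CommRingCat.of Ω) ⟶ T), ξ default ∈ W →
      ∀ (Ω' : Type u) [Field Ω'] [IsSepClosed Ω'] (ξ' : Spec (CommRingCat.of Ω') ⟶ T), ξ' default = genericPoint T →
        Nat.card ((EtCoh.stalk ξ).obj G) ≤ Nat.card ((EtCoh.stalk ξ').obj G)) :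
    ∃ U : T.Opens, genericPoint T ∈ U ∧ EtCoh.IsFiniteLocallyConstant ((EtCoh.pull U.ι).obj G) := by
  obtain ⟨V, M, _, _, s, O, U, p, hU, hOU, hspec, hp, hb⟩ := exists_generic_setup G hfin (𝟙 T)
  refine ⟨U ⊓ W, ⟨hU, hW⟩, ?_⟩
  rw [← Category.comp_id (U ⊓ W).ι]
  refine isFLC_of_germs (𝟙 T) G V s (U ⊓ W) (O ⊓ pullback.fst (𝟙 T) V.hom ⁻¹ᵁ W)
    (fun t ht => ?_) fun o ho => ?_
  · obtain ⟨o, ho, hot⟩ := hOU t ht.1
    exact ⟨o, ⟨ho, show pullback.fst (𝟙 T) V.hom o ∈ W from hot.symm ▸ ht.2⟩, hot⟩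
  obtain ⟨Ω, _, _, η, hη⟩ := Groth.L27.EtSite.exists_geometric_point (X := V.left) (pullback.snd (𝟙 T) V.hom o)
  obtain ⟨Ω', _, _, η', hη'⟩ := Groth.L27.EtSite.exists_geometric_point (X := V.left) p
  obtain ⟨φ⟩ := exists_hom_of_specializes η η' (by rw [hη, hη']; exact hspec o ho.1)
  have hbp := hb Ω' η' hη'
  have hinj : Function.Injective (germ G V s η) := fun a b e => hbp.1 (by
    rw [← germ_map G V s φ, ← germ_map G V s φ, e])
  haveI := hfin Ω (η ≫ V.hom)
  refine ⟨Ω, inferInstance, inferInstance, η, hη, hinj.bijective_of_nat_card_le ?_⟩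
  rw [Nat.card_eq_of_bijective _ hbp]
  refine hle Ω (η ≫ V.hom) ?_ Ω' (η' ≫ V.hom) ?_
  · have h1 : (η ≫ V.hom) default = pullback.fst (𝟙 T) V.hom o := by
      rw [Scheme.Hom.comp_apply, hη, ← Scheme.Hom.comp_apply, ← pullback.condition, Category.comp_id]
    exact h1.symm ▸ ho.2
  · rw [Scheme.Hom.comp_apply, hη']
    exact hp

end Groth.L23.PFin
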