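import Groth.Agent.L23.PFin.SerreSeq
import Mathlib.CategoryTheory.Abelian.DiagramLemmas.KernelCokernelComp
import Mathlib.CategoryTheory.Preadditive.Injective.Preserves

/-!
# Serre classes and right derived functors of composites
-/

set_option autoImplicit false
set_option linter.style.haveILetI false
set_option linter.unusedSectionVars false
set_option backward.isDefEq.respectTransparency false

universe w v u v' u' v'' u''

open CategoryTheory CategoryTheory.Limits CategoryTheory.Pretriangulated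

namespace Groth.L23.PFin

open Groth.L00.RDerLES Groth.L17.GrothSS

section

variable {C : Type u} [Category.{v} C] [Abelian C] [EnoughInjectives C] [HasInjectiveResolutions C]
  {D : Type u'} [Category.{v'} D] [Abelian D] (S : C ⥤ D) [S.Additive]

/-- The hyperderived degree zero map computes the map. -/
noncomputable def cokerIso [HasDerivedCategory.{w} C] [PreservesFiniteLimits S] {X Y : C} (g : X ⟶ Y) :
    cokernel ((HH S ((0 : ℕ) : ℤ)).map ((DerivedCategory.Plus.singleFunctor C 0).map g)) ≅ cokernel (S.map g) :=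
  cokernel.mapIso _ _ (hhSingleZeroIso S X 0 ≪≫ S.rightDerivedZeroIsoSelf.app X)
    (hhSingleZeroIso S Y 0 ≪≫ S.rightDerivedZeroIsoSelf.app Y) (by
      simp only [Iso.trans_hom, Iso.app_hom, Category.assoc]
      rw [← Category.assoc, hhSingleZeroIso_naturality, Category.assoc]
      exact congrArg _ (S.rightDerivedZeroIsoSelf.hom.naturality g))

variable {T : ShortComplex C} (hT : T.ShortExact)

include hT

/-- Dimension shifting. -/
theorem nonempty_shift_iso [Injective T.X₂] (n : ℕ) :
    Nonempty ((S.rightDerived (n + 1)).obj T.X₃ ≅ (S.rightDerived (n + 2)).obj T.X₁) := by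
  letI := HasDerivedCategory.standard C
  obtain ⟨δ, hd⟩ := exists_plusTriangle hT
  let F := HomotopyCategory.homologyFunctor D (.up ℤ) 0
  have hz : ∀ m : ℕ, IsZero ((S.rightDerived (m + 1)).obj T.X₂) := fun m =>
    S.isZero_rightDerived_obj_injective_succ m T.X₂
  let Tr := (RK S).mapTriangle.obj (Triangle.mk ((DerivedCategory.Plus.singleFunctor C 0).map T.f)
    ((DerivedCategory.Plus.singleFunctor C 0).map T.g) δ)
  let d := F.homologySequenceδ Tr ((n + 1 : ℕ) : ℤ) ((n + 2 : ℕ) : ℤ) (by omega)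
  haveI : Mono d := (F.homologySequence_exact₃ Tr ((RK S).map_distinguished _ hd) ((n + 1 : ℕ) : ℤ)
    ((n + 2 : ℕ) : ℤ) (by omega)).mono_g (((hz n).of_iso (hhSingleZeroIso S T.X₂ (n + 1))).eq_of_src _ _)
  haveI : Epi d := (F.homologySequence_exact₁ Tr ((RK S).map_distinguished _ hd) ((n + 1 : ℕ) : ℤ)
    ((n + 2 : ℕ) : ℤ) (by omega)).epi_f (((hz (n + 1)).of_iso (hhSingleZeroIso S T.X₂ (n + 2))).eq_of_tgt _ _)
  haveI : IsIso d := isIso_of_mono_of_epi d
  exact ⟨(hhSingleZeroIso S T.X₃ (n + 1)).symm ≪≫ asIso d ≪≫ hhSingleZeroIso S T.X₁ (n + 2)⟩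

variable (P : ObjectProperty D) [P.IsSerreClass] [PreservesFiniteLimits S]

/-- The cokernel of `S X₂ ⟶ S X₃` lies in `R¹ S X₁`. -/
theorem prop_cokernel_map (h : P ((S.rightDerived 1).obj T.X₁)) : P (cokernel (S.map T.g)) := by
  letI := HasDerivedCategory.standard C
  obtain ⟨δ, hd⟩ := exists_plusTriangle hT
  let F := HomotopyCategory.homologyFunctor D (.up ℤ) 0
  let Tr := (RK S).mapTriangle.obj (Triangle.mk ((DerivedCategory.Plus.singleFunctor C 0).map T.f)
    ((DerivedCategory.Plus.singleFunctor C 0).map T.g) δ)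
  let c := F.comp_homologySequenceδ Tr ((RK S).map_distinguished _ hd) ((0 : ℕ) : ℤ) ((1 : ℕ) : ℤ) (by omega)
  haveI hm : Mono (cokernel.desc _ _ c) := (F.homologySequence_exact₃ Tr ((RK S).map_distinguished _ hd)
    ((0 : ℕ) : ℤ) ((1 : ℕ) : ℤ) (by omega)).mono_cokernelDesc
  refine P.prop_of_iso (cokerIso S T.g) ?_
  exact @ObjectProperty.prop_of_mono _ _ P _ _ _ (cokernel.desc _ _ c) hm
    (P.prop_of_iso (hhSingleZeroIso S T.X₁ 1).symm h)

/-- For an injective middle term, the cokernel of `S X₂ ⟶ S X₃` is `R¹ S X₁`. -/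
theorem nonempty_cokernel_iso [Injective T.X₂] :
    Nonempty (cokernel (S.map T.g) ≅ (S.rightDerived 1).obj T.X₁) := by
  letI := HasDerivedCategory.standard C
  obtain ⟨δ, hd⟩ := exists_plusTriangle hT
  let F := HomotopyCategory.homologyFunctor D (.up ℤ) 0
  let Tr := (RK S).mapTriangle.obj (Triangle.mk ((DerivedCategory.Plus.singleFunctor C 0).map T.f)
    ((DerivedCategory.Plus.singleFunctor C 0).map T.g) δ)
  have hz : IsZero ((S.rightDerived 1).obj T.X₂) := S.isZero_rightDerived_obj_injective_succ 0 T.X₂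
  let c := F.comp_homologySequenceδ Tr ((RK S).map_distinguished _ hd) ((0 : ℕ) : ℤ) ((1 : ℕ) : ℤ) (by omega)
  have he : Epi (cokernel.desc _ _ c) := @epi_of_epi_fac _ _ _ _ _ _ _ _
    ((F.homologySequence_exact₁ Tr ((RK S).map_distinguished _ hd) ((0 : ℕ) : ℤ) ((1 : ℕ) : ℤ) (by omega)).epi_f
      ((hz.of_iso (hhSingleZeroIso S T.X₂ 1)).eq_of_tgt _ _)) (cokernel.π_desc _ _ c)
  have hm : Mono (cokernel.desc _ _ c) := (F.homologySequence_exact₃ Tr ((RK S).map_distinguished _ hd)
    ((0 : ℕ) : ℤ) ((1 : ℕ) : ℤ) (by omega)).mono_cokernelDesc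
  have hi : IsIso (cokernel.desc _ _ c) := @isIso_of_mono_of_epi _ _ _ _ _ _ hm he
  exact ⟨(cokerIso S T.g).symm ≪≫ @asIso _ _ _ _ (cokernel.desc _ _ c) hi ≪≫ hhSingleZeroIso S T.X₁ 1⟩

/-- Splitting of the left exact image of a short exact sequence. -/
theorem exists_image_ses :
    ∃ (M : D) (a : S.obj T.X₂ ⟶ M) (b : M ⟶ S.obj T.X₃) (w : S.map T.f ≫ a = 0),
      (ShortComplex.mk _ _ w).ShortExact ∧
      (ShortComplex.mk b (cokernel.π b) (cokernel.condition b)).ShortExact ∧
      a ≫ b = S.map T.g ∧ Nonempty (cokernel b ≅ cokernel (S.map T.g)) := by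
  haveI := hT.mono_f
  have hex := hT.exact.map_of_mono_of_preservesKernel S hT.mono_f inferInstance
  have hab : cokernel.π (S.map T.f) ≫ cokernel.desc _ (S.map T.g) (T.map S).zero = S.map T.g :=
    cokernel.π_desc _ _ _
  have hb : Mono (cokernel.desc _ (S.map T.g) (T.map S).zero) := hex.mono_cokernelDesc
  refine ⟨cokernel (S.map T.f), cokernel.π _, cokernel.desc _ (S.map T.g) (T.map S).zero,
    cokernel.condition _, ?_, ?_, hab, ⟨(cokernelEpiComp _ _).symm ≪≫ cokernelIsoOfEq hab⟩⟩
  · exact { exact := ShortComplex.exact_of_g_is_cokernel _ (cokernelIsCokernel _) }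
  · exact { exact := ShortComplex.exact_of_g_is_cokernel _ (cokernelIsCokernel _)
            mono_f := hb }

end

section

variable {C : Type u} [Category.{v} C] [Abelian C] [EnoughInjectives C] [HasInjectiveResolutions C]
  {D : Type u'} [Category.{v'} D] [Abelian D] (S : C ⥤ D) [S.Additive] [PreservesFiniteLimits S]
  (P : ObjectProperty D) [P.IsSerreClass] {T : ShortComplex C} (hT : T.ShortExact)

include hT

theorem prop_cokernel_left (h : P ((S.rightDerived 0).obj T.X₃)) : P (cokernel (S.map T.f)) := by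
  haveI := hT.mono_f
  have hm : Mono (cokernel.desc _ (S.map T.g) (T.map S).zero) :=
    (hT.exact.map_of_mono_of_preservesKernel S hT.mono_f inferInstance).mono_cokernelDesc
  exact @ObjectProperty.prop_of_mono _ _ P _ _ _ _ hm (P.prop_of_iso (S.rightDerivedZeroIsoSelf.app _) h)

end

theorem prop_cokernel_comp {D : Type u'} [Category.{v'} D] [Abelian D] (P : ObjectProperty D) [P.IsSerreClass]
    {X Y Z : D} (f : X ⟶ Y) (g : Y ⟶ Z) (hf : P (cokernel f)) (hg : P (cokernel g)) : P (cokernel (f ≫ g)) :=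
  P.prop_X₂_of_exact ((kernelCokernelCompSequence_exact f g).exact 3) hf hg

section

variable {C : Type u} [Category.{v} C] [Abelian C] [EnoughInjectives C] [HasInjectiveResolutions C]
  {C' : Type u''} [Category.{v''} C'] [Abelian C'] [EnoughInjectives C'] [HasInjectiveResolutions C']
  {D : Type u'} [Category.{v'} D] [Abelian D]
  (T : C ⥤ C') [T.Additive] [PreservesFiniteLimits T] [T.PreservesInjectiveObjects]
  (S : C' ⥤ D) [S.Additive] [PreservesFiniteLimits S] (P : ObjectProperty D) [P.IsSerreClass]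

theorem prop_rder_comp_succ : ∀ (q : ℕ) (A : C),
    (∀ i j, P ((S.rightDerived i).obj ((T.rightDerived (j + 1)).obj A))) →
    (∀ i, P ((S.rightDerived (i + 1)).obj (T.obj A))) →
    P (((T ⋙ S).rightDerived (q + 1)).obj A) := by
  intro q
  induction q with
  | zero =>
    intro A h₁ h₀
    let E : ShortComplex C := ShortComplex.mk (Injective.ι A) (cokernel.π (Injective.ι A)) (cokernel.condition _)
    have hE : E.ShortExact := { exact := ShortComplex.exact_of_g_is_cokernel _ (cokernelIsCokernel _) }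
    haveI : Injective E.X₂ := inferInstanceAs (Injective (Injective.under A))
    haveI : PreservesFiniteLimits (T ⋙ S) := comp_preservesFiniteLimits T S
    obtain ⟨e₀⟩ := nonempty_cokernel_iso (T ⋙ S) hE
    refine P.prop_of_iso e₀ ?_
    obtain ⟨M, a, b, w, hs₁, hs₂, hab, ⟨ec⟩⟩ := exists_image_ses T hE
    obtain ⟨eR⟩ := nonempty_cokernel_iso T hE
    rw [show (T ⋙ S).map E.g = S.map a ≫ S.map b from by
      rw [Functor.comp_map, ← hab, Functor.map_comp]]
    exact prop_cokernel_comp P _ _ (prop_cokernel_map S hs₁ P (h₀ 0))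
      (prop_cokernel_left S P hs₂ (P.prop_of_iso ((S.rightDerived 0).mapIso (ec ≪≫ eR).symm) (h₁ 0 0)))
  | succ q ih =>
    intro A h₁ h₀
    let E : ShortComplex C := ShortComplex.mk (Injective.ι A) (cokernel.π (Injective.ι A)) (cokernel.condition _)
    have hE : E.ShortExact := { exact := ShortComplex.exact_of_g_is_cokernel _ (cokernelIsCokernel _) }
    haveI : Injective E.X₂ := inferInstanceAs (Injective (Injective.under A))
    obtain ⟨eTS⟩ := nonempty_shift_iso (T ⋙ S) hE q
    refine P.prop_of_iso eTS (ih E.X₃ (fun i j => ?_) fun i => ?_)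
    · obtain ⟨eT⟩ := nonempty_shift_iso T hE j
      exact P.prop_of_iso ((S.rightDerived i).mapIso eT.symm) (h₁ i (j + 1))
    · obtain ⟨M, a, b, w, hs₁, hs₂, hab, ⟨ec⟩⟩ := exists_image_ses T hE
      obtain ⟨eR⟩ := nonempty_cokernel_iso T hE
      refine prop_rder_mid S P hs₂ (i + 1) ?_
        (P.prop_of_iso ((S.rightDerived (i + 1)).mapIso (ec ≪≫ eR).symm) (h₁ (i + 1) 0))
      refine prop_rder_right S P hs₁ (i + 1) ?_ (h₀ (i + 1))
      exact P.prop_of_isZero (S.isZero_rightDerived_obj_injective_succ i (T.obj E.X₂))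

end

end Groth.L23.PFin
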