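import Groth.Agent.L23.PFin.Comp
import Groth.Agent.L28.Transfer.Constr
import Groth.Agent.L28.Strata.Serre
import Groth.Agent.L28.FinitePush.Geom
import Groth.Agent.L28.Supp.DerComp
import Groth.Agent.L27.EtSite.PropB
import Groth.Agent.L27.EtSite.Push
import Groth.Agent.L27.InjPush.Basic
import Groth.Agent.L21.CurveFin.Constr

/-!
# The Serre class of constructible torsion sheaves
-/

set_option autoImplicit false
set_option linter.style.haveILetI false
set_option linter.unusedSectionVars false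
set_option backward.isDefEq.respectTransparency false
set_option backward.isDefEq.respectTransparency.types false

universe u

open CategoryTheory CategoryTheory.Limits AlgebraicGeometry Opposite

namespace Groth.L23.PFin

variable {X Y Z : Scheme.{u}}

/-- Constructible sheaves killed by some positive integer. -/
def Cons (X : Scheme.{u}) : ObjectProperty (EtCoh.Ab X) :=
  fun F => EtPBC.IsConstructible F ∧ ∃ n : ℕ, 0 < n ∧ n • 𝟙 F = 0

theorem killedBy_of_nsmul {F : EtCoh.Ab X} {n : ℕ} (h : n • 𝟙 F = 0) : EtCoh.KilledBy n F := fun U s => by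
  let ev : (F ⟶ F) →+ EtCoh.sect F U := AddMonoidHom.mk' (fun f => f.hom.app (op U) s) fun _ _ => rfl
  exact (map_nsmul ev n (𝟙 F)).symm.trans (congrArg ev h)

theorem cons_of_killedBy {F : EtCoh.Ab X} {n : ℕ} (hn : 0 < n) (hF : EtPBC.IsConstructible F)
    (h : EtCoh.KilledBy n F) : Cons X F :=
  ⟨hF, n, hn, Groth.L28.Transfer.nsmul_id h⟩

theorem nsmul_id_of_iso {C : Type*} [Category C] [Preadditive C] {F G : C} (e : F ≅ G) {n : ℕ}
    (h : n • 𝟙 F = 0) : n • 𝟙 G = 0 := by
  rw [← e.inv_hom_id, ← Category.id_comp e.hom, ← Preadditive.comp_nsmul, ← Preadditive.nsmul_comp, h,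
    zero_comp, comp_zero]

theorem nsmul_id_map {C D : Type*} [Category C] [Preadditive C] [Category D] [Preadditive D]
    (G : C ⥤ D) [G.Additive] {F : C} {n : ℕ} (h : n • 𝟙 F = 0) : n • 𝟙 (G.obj F) = 0 := by
  rw [← G.map_id, ← G.map_nsmul, h, G.map_zero]

theorem nsmul_id_middle {C : Type*} [Category C] [Abelian C] {T : ShortComplex C} (hT : T.ShortExact)
    {a b : ℕ} (ha : a • 𝟙 T.X₁ = 0) (hb : b • 𝟙 T.X₃ = 0) : (b * a) • 𝟙 T.X₂ = 0 := by
  haveI := hT.mono_f
  have h1 : (b • 𝟙 T.X₂) ≫ T.g = 0 := by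
    rw [Preadditive.nsmul_comp, Category.id_comp, ← Category.comp_id T.g, ← Preadditive.comp_nsmul, hb,
      comp_zero]
  obtain ⟨l, hl⟩ := hT.exact.lift' (b • 𝟙 T.X₂) h1
  rw [mul_comm, mul_nsmul', ← hl, ← Preadditive.nsmul_comp, ← Category.comp_id l, ← Preadditive.comp_nsmul,
    ha, comp_zero, zero_comp]

theorem isZero_const_punit (X : Scheme.{u}) : IsZero (EtCoh.const X PUnit) := by
  haveI := Groth.L27.PBC.const_additive X
  exact (constantSheaf X.smallEtaleTopology AddCommGrpCat.{u + 1}).map_isZero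
    (AddCommGrpCat.isZero_of_subsingleton _)

theorem cons_of_isZero {F : EtCoh.Ab X} (h : IsZero F) : Cons X F := by
  refine ⟨?_, 1, one_pos, h.eq_of_src _ _⟩
  exact Groth.L28.Transfer.isConstructible_of_iso
    ((isZero_const_punit X).iso h)
    (Groth.L21.CurveFin.isConstructible_const X PUnit)

theorem cons_of_iso {F G : EtCoh.Ab X} (e : F ≅ G) (h : Cons X F) : Cons X G :=
  ⟨Groth.L28.Transfer.isConstructible_of_iso e h.1, h.2.choose, h.2.choose_spec.1,
    nsmul_id_of_iso e h.2.choose_spec.2⟩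

instance isSerreClass_cons [AlgebraicGeometry.IsNoetherian X] : (Cons X).IsSerreClass where
  exists_zero := ⟨_, isZero_zero _, cons_of_isZero (isZero_zero _)⟩
  prop_of_mono {F G} i _ h := by
    obtain ⟨hG, n, hn, hk⟩ := h
    refine ⟨Groth.L28.Transfer.isConstructible_sub i n hn hk hG, n, hn, ?_⟩
    rw [← cancel_mono i, zero_comp, Preadditive.nsmul_comp, Category.id_comp, ← Category.comp_id i, ← Preadditive.comp_nsmul, hk, comp_zero]
  prop_of_epi {F G} p _ h := by
    obtain ⟨hF, n, hn, hk⟩ := h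
    refine ⟨Groth.L28.Transfer.isConstructible_quot p n hn hk hF, n, hn, ?_⟩
    rw [← cancel_epi p, comp_zero, Preadditive.comp_nsmul, Category.comp_id, ← Category.id_comp p, ← Preadditive.nsmul_comp, hk, zero_comp]
  prop_X₂_of_shortExact {T} hT h₁ h₃ := by
    obtain ⟨c₁, a, ha, ka⟩ := h₁
    obtain ⟨c₃, b, hb, kb⟩ := h₃
    exact ⟨Groth.L28.Strata.isConstructible_extension hT c₁ c₃, b * a, Nat.mul_pos hb ha,
      nsmul_id_middle hT ka kb⟩

instance preservesFiniteLimits_push (f : X ⟶ Y) : PreservesFiniteLimits (EtCoh.push f) :=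
  haveI : PreservesLimitsOfSize.{0, 0} (EtCoh.push f) := (EtCoh.pullPushAdj f).rightAdjoint_preservesLimits
  PreservesLimitsOfSize.preservesFiniteLimits _

instance preservesInjectiveObjects_push (f : X ⟶ Y) : (EtCoh.push f).PreservesInjectiveObjects :=
  ⟨fun {I} _ => Groth.L27.InjPush.injective_push f I⟩

instance additive_Rpush (f : X ⟶ Y) (q : ℕ) : (EtCoh.Rpush f q).Additive :=
  letI := HasDerivedCategory.standard (EtCoh.Ab X)
  Groth.L00.RDerLES.additive (EtCoh.push f) q

/-- `R f_*` preserves the class. -/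
def Good (f : X ⟶ Y) (F : EtCoh.Ab X) : Prop := ∀ q : ℕ, Cons Y ((EtCoh.Rpush f q).obj F)

theorem good_of_iso {f : X ⟶ Y} {F G : EtCoh.Ab X} (e : F ≅ G) (h : Good f F) : Good f G :=
  fun q => cons_of_iso ((EtCoh.Rpush f q).mapIso e) (h q)

theorem good_congr {f f' : X ⟶ Y} (e : f = f') {F : EtCoh.Ab X} (h : Good f F) : Good f' F := by
  subst e
  exact h

theorem good_zero_push {f : X ⟶ Y} {F : EtCoh.Ab X} (h : Good f F) : Cons Y ((EtCoh.push f).obj F) :=
  cons_of_iso ((EtCoh.push f).rightDerivedZeroIsoSelf.app F) (h 0)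

variable [AlgebraicGeometry.IsNoetherian Y]

theorem good_mid {f : X ⟶ Y} {T : ShortComplex (EtCoh.Ab X)} (hT : T.ShortExact) (h₁ : Good f T.X₁)
    (h₃ : Good f T.X₃) : Good f T.X₂ := fun q =>
  prop_rder_mid (EtCoh.push f) (Cons Y) hT q (h₁ q) (h₃ q)

theorem good_left {f : X ⟶ Y} {T : ShortComplex (EtCoh.Ab X)} (hT : T.ShortExact) (h₂ : Good f T.X₂)
    (h₃ : Good f T.X₃) : Good f T.X₁
  | 0 => prop_rder_left_zero (EtCoh.push f) (Cons Y) hT (h₂ 0)
  | q + 1 => prop_rder_left (EtCoh.push f) (Cons Y) hT q (h₃ q) (h₂ (q + 1))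

theorem good_right {f : X ⟶ Y} {T : ShortComplex (EtCoh.Ab X)} (hT : T.ShortExact) (h₂ : Good f T.X₂)
    (h₁ : Good f T.X₁) : Good f T.X₃ := fun q =>
  prop_rder_right (EtCoh.push f) (Cons Y) hT q (h₂ q) (h₁ (q + 1))

theorem good_of_isZero {f : X ⟶ Y} {F : EtCoh.Ab X} (h : IsZero F) : Good f F := fun q =>
  cons_of_isZero ((EtCoh.Rpush f q).map_isZero h)

theorem good_of_ker_coker {f : X ⟶ Y} {F G : EtCoh.Ab X} (φ : F ⟶ G) (hK : Good f (kernel φ))
    (hC : Good f (cokernel φ)) (hG : Good f G) : Good f F := fun q =>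
  prop_rder_of_ker_coker (EtCoh.push f) (Cons Y) φ hK hC hG q

theorem good_of_ker_coker' {f : X ⟶ Y} {F G : EtCoh.Ab X} (φ : F ⟶ G) (hK : Good f (kernel φ))
    (hC : Good f (cokernel φ)) (hF : Good f F) : Good f G := fun q =>
  prop_rder_of_ker_coker' (EtCoh.push f) (Cons Y) φ hK hC hF q

/-- Composites: from the higher direct images of the first morphism. -/
theorem good_comp (g : Z ⟶ X) (f : X ⟶ Y) (F : EtCoh.Ab Z)
    (h : ∀ j, Good f ((EtCoh.Rpush g j).obj F)) : Good (g ≫ f) F := by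
  have h0 : Good f ((EtCoh.push g).obj F) := good_of_iso ((EtCoh.push g).rightDerivedZeroIsoSelf.app F) (h 0)
  intro q
  obtain ⟨e⟩ := Groth.L28.Supp.nonempty_rightDerived_iso (EtCoh.pushComp f g) q F
  refine cons_of_iso e ?_
  rcases q with _ | q
  · haveI : PreservesFiniteLimits (EtCoh.push g ⋙ EtCoh.push f) := comp_preservesFiniteLimits _ _
    exact cons_of_iso ((EtCoh.push g ⋙ EtCoh.push f).rightDerivedZeroIsoSelf.app F).symm (good_zero_push h0)
  · exact prop_rder_comp_succ (EtCoh.push g) (EtCoh.push f) (Cons Y) q F (fun i j => h (j + 1) i)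
      fun i => h0 (i + 1)

/-- Composites with a finite morphism. -/
theorem good_comp_finite (g : Z ⟶ X) [IsFinite g] (f : X ⟶ Y) (F : EtCoh.Ab Z)
    (h : Good f ((EtCoh.push g).obj F)) : Good (g ≫ f) F :=
  good_comp g f F fun
    | 0 => good_of_iso ((EtCoh.push g).rightDerivedZeroIsoSelf.app F).symm h
    | j + 1 => good_of_isZero (Groth.L27.EtSite.isZero_Rpush_of_propB g
        (Groth.L27.EtSite.propB_of_isIntegralHom g) F (j + 1) j.succ_pos)

theorem good_finite (f : X ⟶ Y) [IsFinite f] [LocallyOfFinitePresentation f] (F : EtCoh.Ab X)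
    (hF : Cons X F) : Good f F := fun
  | 0 => cons_of_iso ((EtCoh.push f).rightDerivedZeroIsoSelf.app F).symm
      ⟨Groth.L28.FinitePush.isConstructible_push f hF.1, hF.2.choose, hF.2.choose_spec.1,
        nsmul_id_map (EtCoh.push f) hF.2.choose_spec.2⟩
  | q + 1 => cons_of_isZero (Groth.L27.EtSite.isZero_Rpush_of_propB f
      (Groth.L27.EtSite.propB_of_isIntegralHom f) F (q + 1) q.succ_pos)

end Groth.L23.PFin
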