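import Groth.Agent.L23.PFin.Cons
import Groth.Agent.L27.PBC.BcQ
import Groth.Agent.L28.ExtShriek.Closures
import Groth.Agent.L28.EtTrace.Galois
import Groth.Agent.L06.Constr
import Groth.Agent.S8546

/-!
# Constructibility of direct images from behaviour at generic points
-/

set_option autoImplicit false
set_option linter.style.haveILetI false
set_option linter.unusedSectionVars false
set_option backward.isDefEq.respectTransparency false
set_option backward.isDefEq.respectTransparency.types false

universe u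

open CategoryTheory CategoryTheory.Limits AlgebraicGeometry Opposite TopologicalSpace

namespace Groth.L23.PFin

theorem isTorsion_of_cons {X : Scheme.{u}} {F : EtCoh.Ab X} (h : Cons X F) : EtCoh.IsTorsion F :=
  Groth.L28.EtTrace.isTorsion_of_nsmul h.2.choose_spec.1 h.2.choose_spec.2

theorem exists_open_subset_range {T' T : Scheme.{u}} (a : T' ⟶ T) [LocallyOfFinitePresentation a]
    [QuasiCompact a] [CompactSpace T] [QuasiSeparatedSpace T] [IrreducibleSpace T]
    (h : genericPoint T ∈ Set.range a) : ∃ U : T.Opens, genericPoint T ∈ U ∧ (U : Set T) ⊆ Set.range a := by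
  have hC : Topology.IsConstructible (Set.range a) :=
    Set.image_univ ▸ a.isConstructible_image Topology.IsConstructible.univ
  have hcl : closure ({genericPoint T} : Set T) = Set.univ := genericPoint_spec T
  obtain ⟨O, hO, ⟨w, hw⟩, hsub⟩ := Groth.L06.Constr.exists_open_inter_subset' hC
    (IrreducibleSpace.isIrreducible_univ T)
    (Groth.L06.Constr.subset_closure_of_generic hcl.ge h trivial)
  exact ⟨⟨O, hO⟩, ((genericPoint_spec T).specializes (Set.mem_univ w)).mem_open hO hw.1,
    fun x hx => hsub ⟨hx, trivial⟩⟩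

/-- Generic criterion. -/
theorem isConstructible_of_generic_pull {S : Scheme.{u}} [IsLocallyNoetherian S] (G : EtCoh.Ab S)
    (H : ∀ (T : Scheme.{u}) [IsAffine T] [AlgebraicGeometry.IsNoetherian T] [IsIntegral T] (k : T ⟶ S),
      ∃ (T' : Scheme.{u}) (a : T' ⟶ T) (_ : LocallyOfFiniteType a) (_ : QuasiCompact a),
        genericPoint T ∈ Set.range a ∧ EtPBC.IsConstructible ((EtCoh.pull (a ≫ k)).obj G)) :
    EtPBC.IsConstructible G := by
  refine Groth.L28.ExtShriek.isConstructible_of_open_closures G fun x => ?_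
  let J := Scheme.IdealSheafData.vanishingIdeal (⟨closure {x}, isClosed_closure⟩ : Closeds S)
  let L := J.subscheme
  let i : L ⟶ S := J.subschemeι
  have hri : Set.range i = closure {x} := by
    rw [Scheme.IdealSheafData.range_subschemeι, Scheme.IdealSheafData.coe_support_vanishingIdeal]
    rfl
  haveI : IsReduced L := Groth.L18.isReduced_vanishingIdeal_subscheme _
  haveI : IsClosedImmersion i := inferInstanceAs (IsClosedImmersion J.subschemeι)
  obtain ⟨z, hz⟩ : x ∈ Set.range i := hri.symm ▸ subset_closure rfl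
  have hgz : ∀ w : L, z ⤳ w := fun w => by
    refine i.isClosedEmbedding.isInducing.specializes_iff.1 ?_
    rw [show i.base z = x from hz]
    exact specializes_iff_mem_closure.2 (hri ▸ ⟨w, rfl⟩)
  haveI : IrreducibleSpace L :=
    { toNonempty := ⟨z⟩
      isPreirreducible_univ := by
        have : closure ({z} : Set L) = Set.univ := Set.eq_univ_of_forall fun w => (hgz w).mem_closure
        exact this ▸ isIrreducible_singleton.closure.isPreirreducible }
  haveI : IsIntegral L := isIntegral_of_irreducibleSpace_of_isReduced L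
  obtain ⟨W, hW, hzW, -⟩ := exists_isAffineOpen_mem_and_subset (X := L) (x := z) (U := ⊤) trivial
  haveI : IsAffine W.toScheme := hW
  haveI : Nonempty W.toScheme := ⟨⟨z, hzW⟩⟩
  haveI : IsLocallyNoetherian L := LocallyOfFiniteType.isLocallyNoetherian i
  haveI : AlgebraicGeometry.IsNoetherian W.toScheme := {}
  have hgW : genericPoint W.toScheme = (⟨z, hzW⟩ : W) := by
    refine (genericPoint_spec W.toScheme).eq ?_
    refine Set.eq_univ_of_forall fun w => ?_
    rw [← specializes_iff_mem_closure]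
    exact W.ι.isOpenEmbedding.isInducing.specializes_iff.1 (hgz _)
  obtain ⟨T', a, _, _, hr, hc⟩ := H W.toScheme (W.ι ≫ i)
  haveI : LocallyOfFinitePresentation a := LocallyOfFinitePresentation.iff_locallyOfFiniteType.2 inferInstance
  obtain ⟨U, hηU, hUa⟩ := exists_open_subset_range a hr
  let aU := a ∣_ U
  haveI : Surjective aU := ⟨fun u => by
    obtain ⟨t, ht⟩ := hUa u.2
    obtain ⟨t', ht'⟩ : t ∈ Set.range (a ⁻¹ᵁ U).ι := by
      rw [Scheme.Opens.range_ι]
      exact show a t ∈ U from ht.symm ▸ u.2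
    refine ⟨t', U.ι.isOpenEmbedding.injective ?_⟩
    show (aU ≫ U.ι) t' = _
    rw [morphismRestrict_ι, Scheme.Hom.comp_apply, ht']
    exact ht⟩
  have hcU : EtPBC.IsConstructible ((EtCoh.pull (U.ι ≫ W.ι ≫ i)).obj G) := by
    refine (Groth.Agent.S8546.result aU _).2 ?_
    refine Groth.L28.Transfer.isConstructible_of_iso ((EtCore.pullComp aU (U.ι ≫ W.ι ≫ i)).app G) ?_
    rw [show aU ≫ U.ι ≫ W.ι ≫ i = (a ⁻¹ᵁ U).ι ≫ a ≫ W.ι ≫ i from by
      rw [← Category.assoc, morphismRestrict_ι, Category.assoc]]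
    exact Groth.L28.Transfer.isConstructible_of_iso ((EtCore.pullComp (a ⁻¹ᵁ U).ι (a ≫ W.ι ≫ i)).app G).symm
      (Groth.L28.ExtShriek.isConstructible_pull _ hc)
  obtain ⟨V, T₀, g, hg, hxV, hrg, hflc⟩ := Groth.L28.ExtShriek.exists_open_closure_of_isConstructible _ hcU
    (⟨genericPoint W.toScheme, hηU⟩ : U)
  haveI := hg
  have hrg' : Set.range g.base = (V : Set U) := by
    rw [hrg, Set.inter_eq_left]
    intro w _
    rw [← specializes_iff_mem_closure]
    exact U.ι.isOpenEmbedding.isInducing.specializes_iff.1 ((genericPoint_spec W.toScheme).specializes (Set.mem_univ _))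
  obtain ⟨l, hl⟩ := Groth.L28.ExtShriek.exists_factor_immersion g V.ι (by
    rw [Scheme.Opens.range_ι, hrg'])
  have hflc' : EtCoh.IsFiniteLocallyConstant ((EtCoh.pull (V.ι ≫ U.ι ≫ W.ι ≫ i)).obj G) := by
    refine (Groth.L28.Strata.lcPred_comp G (U.ι ≫ W.ι ≫ i) V.ι).1 ?_
    rw [← hl]
    exact (Groth.L28.Strata.stable_lcPred _) l g hflc
  let j : V.toScheme ⟶ L := V.ι ≫ U.ι ≫ W.ι
  haveI : IsOpenImmersion j := inferInstance
  obtain ⟨O, hO, hOr⟩ := i.isClosedEmbedding.isInducing.isOpen_iff.1 j.isOpenEmbedding.isOpen_range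
  refine ⟨⟨O, hO⟩, V.toScheme, j ≫ i, inferInstance, ?_, ?_, ?_⟩
  · have : z ∈ i ⁻¹' O := by
      rw [hOr]
      refine ⟨⟨⟨genericPoint W.toScheme, hηU⟩, hxV⟩, ?_⟩
      simp only [j, Scheme.Hom.comp_apply]
      exact congrArg W.ι hgW
    exact hz ▸ (show i z ∈ O from this)
  · rw [Scheme.Hom.comp_base, TopCat.coe_comp, Set.range_comp, ← hOr, Set.image_preimage_eq_inter_range]
    exact congrArg _ hri
  · simpa only [j, Category.assoc] using hflc'

variable {X S : Scheme.{u}} [AlgebraicGeometry.IsNoetherian S] (f : X ⟶ S) [IsProper f]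

/-- Proper direct images are constructible if they are so after generic base changes. -/
theorem good_of_generic (F : EtCoh.Ab X) (hF : Cons X F)
    (H : ∀ (T : Scheme.{u}) [IsAffine T] [AlgebraicGeometry.IsNoetherian T] [IsIntegral T] (k : T ⟶ S),
      ∃ (T' : Scheme.{u}) (a : T' ⟶ T) (_ : LocallyOfFiniteType a) (_ : QuasiCompact a),
        genericPoint T ∈ Set.range a ∧
          Good (pullback.snd f (a ≫ k)) ((EtCoh.pull (pullback.fst f (a ≫ k))).obj F)) :
    Good f F := by
  intro q
  obtain ⟨n, hn, hk⟩ := hF.2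
  refine ⟨isConstructible_of_generic_pull _ fun T _ _ _ k => ?_, n, hn, nsmul_id_map (EtCoh.Rpush f q) hk⟩
  obtain ⟨T', a, ha, hqa, hr, hg⟩ := H T k
  refine ⟨T', a, ha, hqa, hr, ?_⟩
  haveI := Groth.L27.EtSite.preservesFiniteLimits_pull (pullback.fst f (a ≫ k))
  haveI := Groth.L27.PBC.isIso_bcQ f (a ≫ k) (pullback.snd f (a ≫ k)) (pullback.fst f (a ≫ k))
    (IsPullback.of_hasPullback f (a ≫ k)) q F (isTorsion_of_cons hF)
  exact Groth.L28.Transfer.isConstructible_of_iso (asIso (EtBC.bcQ f (a ≫ k) (pullback.snd f (a ≫ k))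
    (pullback.fst f (a ≫ k)) (IsPullback.of_hasPullback f (a ≫ k)).w q F)).symm (hg q).1

end Groth.L23.PFin
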