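import Groth.Agent.L23.PFin.Norm
import Groth.Agent.L02.ConsP.FGA
import Groth.Agent.L05.DescendFP
import Groth.Agent.L19.Limit.Smooth
import Groth.Agent.L19.Limit.Finite
import Groth.Agent.L27.PBC.ProperCd
import Mathlib.AlgebraicGeometry.Morphisms.UniversallyOpen

/-!
# Spreading out the normalisation of the geometric generic fibre of a family of curves
-/

set_option autoImplicit false
set_option linter.style.haveILetI false
set_option linter.unusedSectionVars false
set_option backward.isDefEq.respectTransparency false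
set_option backward.isDefEq.respectTransparency.types false

universe u

open CategoryTheory CategoryTheory.Limits AlgebraicGeometry Opposite TopologicalSpace
open Groth.L19.Limit

noncomputable section

namespace Groth.L23.PFin

/-- Good lifts over the points of the generic fibre which are not closed in it. -/
def HasGenericLifts {N X T : Scheme.{u}} [IrreducibleSpace T] (f : X ⟶ T) (μ : N ⟶ X) : Prop :=
  ∀ y y' : X, f y = genericPoint T → f y' = genericPoint T → y ⤳ y' → y' ≠ y →
    ∃ (Ω : Type u) (_ : Field Ω) (_ : IsAlgClosed Ω) (ξ : Spec (CommRingCat.of Ω) ⟶ X),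
      ξ default = y ∧ ∃! v : Spec (CommRingCat.of Ω) ⟶ N, v ≫ μ = ξ

theorem existsUnique_lift_of_isPullback {N N' C X : Scheme.{u}} {g : N ⟶ N'} {μ₁ : N ⟶ C} {μ : N' ⟶ X}
    {π : C ⟶ X} (sq : IsPullback g μ₁ μ π) {W : Scheme.{u}} (ξ : W ⟶ C) (h : ∃! v, v ≫ μ₁ = ξ) :
    ∃! v, v ≫ μ = ξ ≫ π := by
  obtain ⟨v, hv, hu⟩ := h
  refine ⟨v ≫ g, ?_, fun w hw => ?_⟩
  · show (v ≫ g) ≫ μ = ξ ≫ π
    rw [Category.assoc, sq.w, ← Category.assoc, show v ≫ μ₁ = ξ from hv]
  · have := hu (sq.lift w ξ hw) (sq.lift_snd w ξ hw)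
    rw [← this, sq.lift_fst]

theorem genericPoint_Spec_map {A B : Type u} [CommRing A] [CommRing B] [IsDomain A] [IsDomain B] (φ : A →+* B)
    (hφ : Function.Injective φ) :
    Spec.map (CommRingCat.ofHom φ) (genericPoint (Spec (CommRingCat.of B))) = genericPoint (Spec (CommRingCat.of A)) := by
  rw [genericPoint_eq_bot_of_affine, genericPoint_eq_bot_of_affine]
  exact PrimeSpectrum.ext (Ideal.comap_bot_of_injective φ hφ)

theorem flat_of_domain_to_field {S Ω : Type u} [CommRing S] [IsDomain S] [Field Ω] [Algebra S Ω]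
    (h : Function.Injective (algebraMap S Ω)) :
    Flat (Spec.map (CommRingCat.ofHom (algebraMap S Ω))) := by
  haveI : FaithfulSMul S Ω := (faithfulSMul_iff_algebraMap_injective S Ω).2 h
  letI := FractionRing.liftAlgebra S Ω
  haveI : Module.Flat S (FractionRing S) := IsLocalization.flat (FractionRing S) (nonZeroDivisors S)
  haveI : Module.Flat S Ω := Module.Flat.trans S (FractionRing S) Ω
  exact (HasRingHomProperty.Spec_iff (P := @Flat)).2 (RingHom.flat_algebraMap_iff.2 this)

theorem exists_model {X T : Scheme.{u}} [IsAffine T] [AlgebraicGeometry.IsNoetherian T] [IsIntegral T]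
    (f : X ⟶ T) [IsProper f] (hdim : ∀ t : T, topologicalKrullDim (f.fiber t) ≤ 1) :
    ∃ (T' : Scheme.{u}) (a : T' ⟶ T) (_ : LocallyOfFiniteType a) (_ : QuasiCompact a) (_ : IsIntegral T')
      (_ : AlgebraicGeometry.IsNoetherian T'),
      a (genericPoint T') = genericPoint T ∧
        ∃ (N : Scheme.{u}) (μ : N ⟶ pullback f a), IsFinite μ ∧ Smooth (μ ≫ pullback.snd f a) ∧
          HasGenericLifts (pullback.snd f a) μ := by
  haveI : Nonempty (⊤ : T.Opens) := ⟨⟨genericPoint T, trivial⟩⟩
  let A := Γ(T, ⊤)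
  haveI : IsFractionRing A T.functionField :=
    functionField_isFractionRing_of_isAffineOpen T ⊤ (isAffineOpen_top T)
  let Ω := AlgebraicClosure T.functionField
  haveI : IsNoetherianRing A := IsLocallyNoetherian.component_noetherian ⟨⊤, isAffineOpen_top T⟩
  have hAΩ : Function.Injective (algebraMap A Ω) := by
    rw [IsScalarTower.algebraMap_eq A T.functionField Ω]
    exact (algebraMap T.functionField Ω).injective.comp (IsFractionRing.injective A T.functionField)
  let D := L02.ConsP.FGA.specDiagram A Ω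
  let c := L02.ConsP.FGA.specCone A Ω
  have hc : IsLimit c := L02.ConsP.FGA.isLimitSpecCone A Ω
  haveI : ∀ i, CompactSpace (D.obj i) := fun i => inferInstanceAs (CompactSpace (Spec _))
  haveI : ∀ i, QuasiSeparatedSpace (D.obj i) := fun i => inferInstanceAs (QuasiSeparatedSpace (Spec _))
  haveI hft : ∀ i : (L02.ConsP.FGA.FG A Ω)ᵒᵖ, Algebra.FiniteType A i.unop.1 := fun i =>
    (Subalgebra.fg_iff_finiteType _).1 i.unop.2
  haveI hnoe : ∀ i, AlgebraicGeometry.IsNoetherian (D.obj i) := fun i => by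
    haveI : IsNoetherianRing i.unop.1 := Algebra.FiniteType.isNoetherianRing A _
    exact inferInstanceAs (AlgebraicGeometry.IsNoetherian (Spec (CommRingCat.of i.unop.1)))
  let toT : ∀ i, D.obj i ⟶ T := fun i => Spec.map (CommRingCat.ofHom (algebraMap A i.unop.1)) ≫ T.isoSpec.inv
  have htoT : ∀ {i j} (φ : i ⟶ j), D.map φ ≫ toT j = toT i := fun φ => by
    show Spec.map _ ≫ Spec.map _ ≫ _ = _
    rw [← Category.assoc, ← Spec.map_comp]
    rfl
  have hlft : ∀ i, LocallyOfFiniteType (toT i) := fun i => by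
    haveI : LocallyOfFiniteType (Spec.map (CommRingCat.ofHom (algebraMap A i.unop.1))) :=
      (HasRingHomProperty.Spec_iff (P := @LocallyOfFiniteType)).2 (RingHom.finiteType_algebraMap.2 (hft i))
    exact inferInstanceAs (LocallyOfFiniteType (_ ≫ _))
  let i₀ : (L02.ConsP.FGA.FG A Ω)ᵒᵖ := op ⟨⊥, Subalgebra.fg_bot⟩
  let yi : pullback f (toT i₀) ⟶ D.obj i₀ := pullback.snd f (toT i₀)
  haveI : IsProper yi := MorphismProperty.pullback_snd (P := @IsProper) _ _ inferInstance
  let E := bcDiagram D yi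
  let cE := bcCone D c yi
  have hcE : IsLimit cE := isLimitBcCone yi hc
  haveI : ∀ k, CompactSpace (E.obj k) := fun k =>
    QuasiCompact.compactSpace_of_compactSpace (X := pullback (D.map k.hom) yi) (pullback.fst (D.map k.hom) yi)
  haveI : ∀ k, QuasiSeparatedSpace (E.obj k) := fun k =>
    quasiSeparatedSpace_of_quasiSeparated (X := pullback (D.map k.hom) yi) (pullback.fst (D.map k.hom) yi)
  haveI : ∀ k, AlgebraicGeometry.IsNoetherian (E.obj k) := fun k =>
    haveI : IsLocallyNoetherian (E.obj k) :=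
      LocallyOfFiniteType.isLocallyNoetherian (X := pullback (D.map k.hom) yi) (pullback.fst (D.map k.hom) yi)
    {}
  let hT : Spec (CommRingCat.of Ω) ⟶ T := c.π.app i₀ ≫ toT i₀
  let C : Scheme.{u} := pullback (c.π.app i₀) yi
  let fΩ : C ⟶ Spec (CommRingCat.of Ω) := pullback.fst (c.π.app i₀) yi
  have hπC : IsPullback (pullback.snd (c.π.app i₀) yi ≫ pullback.fst f (toT i₀)) fΩ f hT :=
    (IsPullback.of_hasPullback (c.π.app i₀) yi).flip.paste_horiz (IsPullback.of_hasPullback f (toT i₀))
  haveI : IsProper fΩ := MorphismProperty.pullback_fst (P := @IsProper) _ _ inferInstance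
  have hdC : topologicalKrullDim C ≤ 1 :=
    (IsHomeomorph.topologicalKrullDim_eq _ hπC.isoPullback.hom.homeomorph.isHomeomorph).trans_le
      (Groth.L27.PBC.topologicalKrullDim_pullback_le f 1 hdim hT)
  obtain ⟨N₁, μ₁, hμ₁, hsm₁, hu₁⟩ := exists_norm_family fΩ hdC
  haveI := hμ₁
  haveI : IsLocallyNoetherian cE.pt := LocallyOfFiniteType.isLocallyNoetherian (X := C) fΩ
  let μ₁' : N₁ ⟶ cE.pt := μ₁
  haveI : IsFinite μ₁' := hμ₁
  obtain ⟨j, Nj, fj, gN, hlfp, hqc, hqs, sqN⟩ := Groth.L05.DescendFP.exists_stage hcE μ₁'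
  obtain ⟨k, ψ, hfin⟩ := descends_isFinite (D := E) (c := cE) hcE (i := j) fj
    (show qcqsft fj from ⟨⟨hqc, hqs⟩, inferInstance⟩) ((pb_iff_of_isPullback sqN).1 hμ₁)
  let μk : pullback (E.map ψ) fj ⟶ E.obj k := pullback.fst (E.map ψ) fj
  haveI : IsFinite μk := hfin
  let gk : N₁ ⟶ pullback (E.map ψ) fj := pullback.lift (μ₁' ≫ cE.π.app k) gN
    (by rw [Category.assoc, cE.w]; exact sqN.w.symm)
  have sqNk : IsPullback gk μ₁' μk (cE.π.app k) := by
    refine IsPullback.of_right ?_ (pullback.lift_fst _ _ _) (IsPullback.of_hasPullback (E.map ψ) fj).flip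
    rw [pullback.lift_snd, cE.w]
    exact sqN
  let fk : E.obj k ⟶ D.obj k.left := pullback.fst (D.map k.hom) yi
  let hk : pullback (E.map ψ) fj ⟶ D.obj k.left := μk ≫ fk
  have sqE : IsPullback (cE.π.app k) fΩ fk (c.π.app k.left) := isPullback_bcCone D c yi k
  haveI : LocallyOfFiniteType hk := inferInstance
  haveI : QuasiCompact fk := inferInstanceAs (QuasiCompact (pullback.fst (D.map k.hom) yi))
  haveI : QuasiSeparated fk := inferInstanceAs (QuasiSeparated (pullback.fst (D.map k.hom) yi))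
  haveI : LocallyOfFinitePresentation hk := LocallyOfFinitePresentation.iff_locallyOfFiniteType.2 inferInstance
  obtain ⟨l, χ, hsm⟩ := descends_smooth (D := D) (c := c) hc (i := k.left) hk
    (show qcqsfp hk from ⟨⟨inferInstance, inferInstance⟩, inferInstance⟩)
    ((pb_iff_of_isPullback (sqNk.paste_vert sqE)).1 hsm₁)
  let a := toT l
  let X' := pullback f a
  let f' : X' ⟶ D.obj l := pullback.snd f a
  have sqA : IsPullback (pullback.snd (D.map k.hom) yi ≫ pullback.fst f (toT i₀)) fk f (toT k.left) := by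
    rw [← htoT k.hom]
    exact (IsPullback.of_hasPullback (D.map k.hom) yi).flip.paste_horiz (IsPullback.of_hasPullback f (toT i₀))
  let ρ : X' ⟶ E.obj k := sqA.lift (pullback.fst f a) (f' ≫ D.map χ)
    (by rw [Category.assoc, htoT]; exact pullback.condition)
  have sqρ : IsPullback ρ f' fk (D.map χ) := by
    refine IsPullback.of_right ?_ (sqA.lift_snd _ _ _) sqA
    rw [sqA.lift_fst, htoT]
    exact IsPullback.of_hasPullback f a
  let μ' : pullback μk ρ ⟶ X' := pullback.snd μk ρ
  haveI : IsFinite μ' := MorphismProperty.pullback_snd (P := @IsFinite) _ _ inferInstance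
  have hsm' : Smooth (μ' ≫ f') :=
    (pb_iff_of_isPullback ((IsPullback.of_hasPullback μk ρ).paste_vert sqρ)).2 hsm
  haveI : IsDomain l.unop.1 := inferInstance
  haveI hintl : IsIntegral (D.obj l) := inferInstanceAs (IsIntegral (Spec (CommRingCat.of l.unop.1)))
  have hcl : ∀ z, c.π.app l z = genericPoint (D.obj l) := fun z => by
    rw [Subsingleton.elim (α := Spec (CommRingCat.of Ω)) z (genericPoint (Spec (CommRingCat.of Ω)))]
    exact genericPoint_Spec_map (algebraMap l.unop.1 Ω) Subtype.val_injective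
  refine ⟨D.obj l, a, hlft l, inferInstance, hintl, hnoe l, ?_, _, μ', inferInstance, hsm', ?_⟩
  · have h1 : Spec.map (CommRingCat.ofHom (algebraMap A l.unop.1)) (genericPoint (Spec (CommRingCat.of l.unop.1))) =
        genericPoint (Spec (CommRingCat.of A)) :=
      genericPoint_Spec_map _ fun x y h => hAΩ (congrArg Subtype.val h)
    show (Spec.map (CommRingCat.ofHom (algebraMap A l.unop.1)) ≫ T.isoSpec.inv)
      (genericPoint (Spec (CommRingCat.of l.unop.1))) = _
    rw [Scheme.Hom.comp_apply, h1]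
    exact genericPoint_eq_of_isOpenImmersion T.isoSpec.inv
  have hwl : c.π.app l ≫ a = hT := by
    show c.π.app l ≫ toT l = c.π.app i₀ ≫ toT i₀
    rw [← htoT (χ ≫ k.hom), ← Category.assoc, c.w]
  let π : C ⟶ X' := pullback.lift (pullback.snd (c.π.app i₀) yi ≫ pullback.fst f (toT i₀)) (fΩ ≫ c.π.app l)
    (hπC.w.trans ((congrArg (fΩ ≫ ·) hwl.symm).trans (Category.assoc _ _ _).symm))
  have sqπ : IsPullback π fΩ f' (c.π.app l) := by
    refine IsPullback.of_right ?_ (pullback.lift_snd _ _ _) (IsPullback.of_hasPullback f a)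
    rw [pullback.lift_fst, hwl]
    exact hπC
  have hπρ : π ≫ ρ = cE.π.app k := by
    refine sqA.hom_ext ?_ ?_
    · have h1 : cE.π.app k ≫ pullback.snd (D.map k.hom) yi = pullback.snd (c.π.app i₀) yi := by
        simp [cE, bcCone]
      rw [Category.assoc, sqA.lift_fst, pullback.lift_fst]
      exact (congrArg (· ≫ pullback.fst f (toT i₀)) h1.symm).trans (Category.assoc _ _ _)
    · rw [Category.assoc, sqA.lift_snd, ← Category.assoc π f', show π ≫ f' = fΩ ≫ c.π.app l from sqπ.w, Category.assoc, c.w]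
      exact sqE.w.symm
  let g' : N₁ ⟶ pullback μk ρ := pullback.lift gk (μ₁' ≫ π) (by rw [Category.assoc, hπρ]; exact sqNk.w)
  have sqN' : IsPullback g' μ₁ μ' π := by
    refine IsPullback.of_right ?_ (pullback.lift_snd _ _ _) (IsPullback.of_hasPullback μk ρ)
    rw [pullback.lift_fst, hπρ]
    exact sqNk
  haveI : Flat π := by
    haveI : Flat (c.π.app l) := flat_of_domain_to_field (S := l.unop.1) (Ω := Ω) Subtype.val_injective
    exact MorphismProperty.of_isPullback (P := @Flat) sqπ.flip inferInstance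
  intro y y' hy hy' hyy' hne
  obtain ⟨z', -, hz'⟩ := Scheme.Pullback.exists_preimage_pullback (f := c.π.app l) (g := f')
    (default : Spec (CommRingCat.of Ω)) y' ((hcl _).trans hy'.symm)
  have hx' : π ((sqπ.flip.isoPullback.inv) z') = y' := by
    rw [← Scheme.Hom.comp_apply, IsPullback.isoPullback_inv_snd]
    exact hz'
  obtain ⟨x, hxx', hxy⟩ := Flat.generalizingMap (f := π) (hx'.symm ▸ hyy' : y ⤳ π (sqπ.flip.isoPullback.inv z'))
  have hxc : ¬ IsClosed ({x} : Set C) := fun hcl' => by
    have := hxx'.mem_closed hcl' rfl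
    rw [Set.mem_singleton_iff] at this
    exact hne (by rw [← hx', this, hxy])
  obtain ⟨K, _, _, ξ, hξ⟩ : ∃ (K : Type u) (_ : Field K) (_ : IsAlgClosed K) (ξ : Spec (CommRingCat.of K) ⟶ C),
      ξ default = x :=
    ⟨AlgebraicClosure (C.residueField x), inferInstance, inferInstance,
      Spec.map (CommRingCat.ofHom (algebraMap (C.residueField x) (AlgebraicClosure (C.residueField x)))) ≫
        C.fromSpecResidueField x, (Scheme.Hom.comp_apply _ _ _).trans (Scheme.fromSpecResidueField_apply _ _)⟩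
  refine ⟨K, inferInstance, inferInstance, ξ ≫ π, ?_, existsUnique_lift_of_isPullback sqN' ξ (hu₁ x hxc K ξ hξ)⟩
  rw [Scheme.Hom.comp_apply, hξ, hxy]

end Groth.L23.PFin
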