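import Groth.Agent.L23.PFin.Acyclic
import Groth.Agent.L27.ExtZero.Restr
import Groth.Agent.L28.Supp.Spec
import Groth.Agent.L06.Spectral
import Groth.Agent.S0654
import Mathlib.AlgebraicGeometry.ZariskisMainTheorem

/-!
# Sheaves with small support
-/

set_option autoImplicit false
set_option linter.style.haveILetI false
set_option linter.unusedSectionVars false
set_option backward.isDefEq.respectTransparency false
set_option backward.isDefEq.respectTransparency.types false

universe u

open CategoryTheory CategoryTheory.Limits AlgebraicGeometry Opposite TopologicalSpace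

namespace Groth.L23.PFin

theorem isZero_stalk_of_not_mem {X : Scheme.{u}} (F : EtCoh.Ab X) {Ω : Type u} [Field Ω] [IsSepClosed Ω]
    (ξ : Spec (CommRingCat.of Ω) ⟶ X) (h : ξ.base default ∉ EtPBC.supp F) : IsZero ((EtCoh.stalk ξ).obj F) :=
  by_contra fun hn => h ⟨Ω, inferInstance, inferInstance, ξ, Groth.L28.Spz.range_eq_singleton ξ rfl, hn⟩

/-- A sheaf supported on a closed subscheme is pushed forward from it. -/
theorem nonempty_iso_push {X Z : Scheme.{u}} (i : Z ⟶ X) [IsClosedImmersion i] (K : EtCoh.Ab X)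
    (h : EtPBC.supp K ⊆ Set.range i.base) :
    Nonempty (K ≅ (EtCoh.push i).obj ((EtCoh.pull i).obj K)) := by
  let U : X.Opens := ⟨(Set.range i.base)ᶜ, i.isClosedEmbedding.isClosed_range.isOpen_compl⟩
  haveI : AlgebraicGeometry.Etale U.ι := inferInstance
  obtain ⟨w, hw⟩ := Groth.Agent.S0654.result i U rfl K
  have hz : IsZero ((EtShriek.restrAlong U.ι).obj K) := by
    refine IsZero.of_iso ?_ ((Groth.L27.ExtZero.pullRestr U.ι).app K).symm
    refine (Groth.L27.EtSite.isZero_iff_stalks _).2 fun Ω _ _ v => ?_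
    refine (isZero_stalk_of_not_mem K (v ≫ U.ι) ?_).of_iso ((Groth.L27.EtSite.stalkPullIso U.ι v).app K)
    rw [Scheme.Hom.comp_apply]
    exact fun hm => (v default).2 (h hm)
  haveI : (EtShriek.extZero U.ι).Additive := (EtShriek.extZeroAdj U.ι).left_adjoint_additive
  haveI : Mono ((EtCoh.pullPushAdj i).unit.app K) :=
    hw.exact.mono_g (((EtShriek.extZero U.ι).map_isZero hz).eq_of_src _ _)
  haveI : Epi ((EtCoh.pullPushAdj i).unit.app K) := hw.epi_g
  haveI : IsIso ((EtCoh.pullPushAdj i).unit.app K) := isIso_of_mono_of_epi _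
  exact ⟨asIso ((EtCoh.pullPushAdj i).unit.app K)⟩

theorem finite_of_forall_isClosed {W : Type u} [TopologicalSpace W] [NoetherianSpace W] [QuasiSober W]
    [T0Space W] (h : ∀ w : W, IsClosed ({w} : Set W)) : Finite W := by
  have hf := (NoetherianSpace.finite_irreducibleComponents (α := W))
  refine Set.finite_univ_iff.1 ((hf.biUnion (t := fun s => s) fun s hs => ?_).subset fun w _ =>
    Set.mem_biUnion (irreducibleComponent_mem_irreducibleComponents w) mem_irreducibleComponent)
  have hg := hs.1.isGenericPoint_genericPoint (isClosed_of_mem_irreducibleComponents s hs)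
  rw [← hg.def, (h _).closure_eq]
  exact Set.finite_singleton _

variable {X T : Scheme.{u}} [AlgebraicGeometry.IsNoetherian T] [IrreducibleSpace T]

/-- The generic fibre of the closure of the support. -/
theorem closed_of_closure {X : Scheme.{u}} [CompactSpace X] [QuasiSeparatedSpace X] (f : X ⟶ T) {E : Set X}
    (hE : Topology.IsConstructible E)
    (hcl : ∀ e ∈ E, f e = genericPoint T → ∀ y, f y = genericPoint T → e ⤳ y → y = e) (z : X)
    (hz : z ∈ closure E) (hfz : f z = genericPoint T) (y : X) (hy : f y = genericPoint T) (hzy : z ⤳ y) :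
    y = z := by
  haveI : SpectralSpace X := {}
  obtain ⟨e, he, hez⟩ := Groth.L06.Spectral.exists_specializes_of_mem_closure
    (Groth.L06.Spectral.isClopen_cons_of_isConstructible hE).1 hz
  have hfe : f e = genericPoint T :=
    ((hez.map f.continuous).trans (specializes_of_eq hfz) |>.antisymm
      ((genericPoint_spec T).specializes (Set.mem_univ _))).eq
  rw [hcl e he hfe z hfz hez, hcl e he hfe y hy (hez.trans hzy)]

/-- Generic finiteness over the base. -/
theorem exists_open_isFinite {Z : Scheme.{u}} (g : Z ⟶ T) [IsProper g]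
    (h : ∀ z, g z = genericPoint T → ∀ y, g y = genericPoint T → z ⤳ y → y = z) :
    ∃ U : T.Opens, genericPoint T ∈ U ∧ IsFinite (g ∣_ U) := by
  have hfib : ∀ z, g z = genericPoint T → g.QuasiFiniteAt z := by
    intro z hz
    let η := g z
    haveI : LocallyOfFiniteType (g.fiberToSpecResidueField η) :=
      MorphismProperty.pullback_snd (P := @LocallyOfFiniteType) g (T.fromSpecResidueField η) inferInstance
    haveI : IsLocallyNoetherian (g.fiber η) :=
      LocallyOfFiniteType.isLocallyNoetherian (g.fiberToSpecResidueField η)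
    haveI : CompactSpace (g.fiber η) := QuasiCompact.compactSpace_of_compactSpace (g.fiberToSpecResidueField η)
    haveI : AlgebraicGeometry.IsNoetherian (g.fiber η) := {}
    have hc : ∀ w : g.fiber η, IsClosed ({w} : Set (g.fiber η)) := fun w => by
      refine closure_eq_iff_isClosed.1 (Set.Subset.antisymm (fun v hv => ?_) subset_closure)
      have hw : ∀ v : g.fiber η, g (g.fiberι η v) = genericPoint T := fun v => by
        have : g.fiberι η v ∈ Set.range (g.fiberι η) := ⟨v, rfl⟩
        rw [Scheme.Hom.range_fiberι] at this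
        exact (show g (g.fiberι η v) = η from this).trans hz
      exact (g.fiberι η).isEmbedding.injective
        (h _ (hw w) _ (hw v) ((specializes_iff_mem_closure.2 hv).map (g.fiberι η).continuous))
    haveI : Finite (g.fiber η) := finite_of_forall_isClosed hc
    haveI : T1Space (g.fiber η) := ⟨hc⟩
    rw [Scheme.Hom.quasiFiniteAt_iff_isOpen_singleton_asFiber]
    exact isOpen_discrete _
  let B : Set T := g '' ((g.quasiFiniteLocus : Set Z)ᶜ)
  let U : T.Opens := ⟨Bᶜ, (g.isClosedMap _ g.quasiFiniteLocus.2.isClosed_compl).isOpen_compl⟩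
  refine ⟨U, fun ⟨z, hz, e⟩ => hz (hfib z e), ?_⟩
  haveI : LocallyQuasiFinite (g ∣_ U) := by
    refine (Scheme.Hom.quasiFiniteLocus_eq_top_iff _).1 (top_le_iff.1 fun z _ => ?_)
    have hz : g.QuasiFiniteAt ((g ⁻¹ᵁ U).ι z) := by
      by_contra hn
      exact z.2 ⟨_, hn, rfl⟩
    have h1 : ((g ⁻¹ᵁ U).ι ≫ g).QuasiFiniteAt z :=
      Scheme.Hom.quasiFiniteAt_comp_iff_of_isOpenImmersion.2 hz
    rw [← morphismRestrict_ι] at h1
    exact Scheme.Hom.quasiFiniteAt_comp_iff.1 h1
  haveI : IsProper (g ∣_ U) := inferInstance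
  exact IsFinite.of_isProper_of_locallyQuasiFinite _

theorem nonempty_pull_comp_iso {A B C : Scheme.{u}} (a : A ⟶ B) (b : B ⟶ C) (F : EtCoh.Ab C) :
    Nonempty ((EtCoh.pull a).obj ((EtCoh.pull b).obj F) ≅ (EtCoh.pull (a ≫ b)).obj F) :=
  ⟨((EtCore.pullComp a b).app F).symm⟩

theorem cons_pull {A B : Scheme.{u}} (a : A ⟶ B) {F : EtCoh.Ab B} (h : Cons B F) :
    Cons A ((EtCoh.pull a).obj F) :=
  haveI : (EtCoh.pull a).Additive := (EtCoh.pullPushAdj a).left_adjoint_additive
  ⟨Groth.L28.ExtShriek.isConstructible_pull a h.1, h.2.choose, h.2.choose_spec.1,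
    nsmul_id_map (EtCoh.pull a) h.2.choose_spec.2⟩

/-- Sheaves whose support has finite generic fibre are generically good. -/
theorem exists_open_good_small (f : X ⟶ T) [IsProper f] (K : EtCoh.Ab X) (hK : Cons X K)
    (hsmall : ∀ e ∈ EtPBC.supp K, f e = genericPoint T → ∀ y, f y = genericPoint T → e ⤳ y → y = e) :
    ∃ U : T.Opens, genericPoint T ∈ U ∧ ∀ V : T.Opens, V ≤ U →
      Good (f ∣_ V) ((EtCoh.pull (f ⁻¹ᵁ V).ι).obj K) := by
  haveI : IsLocallyNoetherian X := LocallyOfFiniteType.isLocallyNoetherian f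
  haveI : CompactSpace X := QuasiCompact.compactSpace_of_compactSpace f
  haveI : AlgebraicGeometry.IsNoetherian X := {}
  let J := Scheme.IdealSheafData.vanishingIdeal (⟨closure (EtPBC.supp K), isClosed_closure⟩ : Closeds X)
  let i : J.subscheme ⟶ X := J.subschemeι
  haveI : IsClosedImmersion i := inferInstanceAs (IsClosedImmersion J.subschemeι)
  have hri : Set.range i = closure (EtPBC.supp K) := by
    rw [Scheme.IdealSheafData.range_subschemeι, Scheme.IdealSheafData.coe_support_vanishingIdeal]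
    rfl
  haveI : IsProper (i ≫ f) := inferInstance
  obtain ⟨U, hU, hUfin⟩ := exists_open_isFinite (i ≫ f) fun z hz y hy hzy =>
    i.isClosedEmbedding.injective (closed_of_closure f (Groth.L28.Supp.isConstructible_supp hK.1) hsmall (i z)
      (hri ▸ ⟨z, rfl⟩) (by rwa [← Scheme.Hom.comp_apply]) (i y) (by rwa [← Scheme.Hom.comp_apply])
      (hzy.map i.continuous))
  haveI := hUfin
  refine ⟨U, hU, fun V hV => ?_⟩
  haveI : IsLocallyNoetherian V.toScheme := LocallyOfFiniteType.isLocallyNoetherian V.ι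
  haveI : CompactSpace V.toScheme := isCompact_iff_compactSpace.1 (NoetherianSpace.isCompact (V : Set T))
  haveI : AlgebraicGeometry.IsNoetherian V.toScheme := {}
  let i' := i ∣_ (f ⁻¹ᵁ V)
  haveI : IsClosedImmersion i' := MorphismProperty.of_isPullback (P := @IsClosedImmersion)
    (isPullback_morphismRestrict i (f ⁻¹ᵁ V)).flip inferInstance
  haveI : IsFinite ((i ≫ f) ∣_ V) := by
    have hle : (i ≫ f) ∣_ V ≫ T.homOfLE hV = (i ≫ f).resLE U ((i ≫ f) ⁻¹ᵁ V) ((i ≫ f).preimage_mono hV) := by
      rw [← cancel_mono U.ι, Category.assoc, Scheme.homOfLE_ι, morphismRestrict_ι, Scheme.Hom.resLE_comp_ι]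
    have sq : IsPullback ((i ≫ f) ∣_ V) (Z := T) ((i ≫ f) ⁻¹ᵁ V).ι V.ι (i ≫ f) :=
      isPullback_morphismRestrict (i ≫ f) V
    have sqU := isPullback_morphismRestrict (i ≫ f) U
    let l := (J.subscheme).homOfLE ((i ≫ f).preimage_mono hV)
    have sq' : IsPullback ((i ≫ f) ∣_ V) l (T.homOfLE hV) ((i ≫ f) ∣_ U) := by
      refine IsPullback.of_bot ?_ ?_ sqU
      · rw [Scheme.homOfLE_ι, Scheme.homOfLE_ι]
        exact sq
      · rw [← cancel_mono U.ι, Category.assoc, Category.assoc, Scheme.homOfLE_ι, morphismRestrict_ι,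
          morphismRestrict_ι, Scheme.homOfLE_ι_assoc]
    exact MorphismProperty.of_isPullback (P := @IsFinite) sq'.flip hUfin
  haveI : IsFinite (i' ≫ f ∣_ V) := by
    rw [← morphismRestrict_comp i f V]
    assumption
  let K' := (EtCoh.pull (f ⁻¹ᵁ V).ι).obj K
  haveI : LocallyOfFinitePresentation (i' ≫ f ∣_ V) := LocallyOfFinitePresentation.iff_locallyOfFiniteType.2 inferInstance
  obtain ⟨e⟩ := nonempty_iso_push i' K' (fun x hx => by
    obtain ⟨Ω, _, _, ξ, hξ, hne⟩ := hx
    by_contra hn
    refine hne ((isZero_stalk_of_not_mem K (ξ ≫ (f ⁻¹ᵁ V).ι) ?_).of_iso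
      ((Groth.L27.EtSite.stalkPullIso (f ⁻¹ᵁ V).ι ξ).app K))
    intro hm
    obtain ⟨z, hz⟩ : (ξ ≫ (f ⁻¹ᵁ V).ι) default ∈ Set.range i := hri ▸ subset_closure hm
    have hxd : ξ default = x := Groth.L28.Spz.default_eq_of_range hξ
    rw [Scheme.Hom.comp_apply, hxd] at hz
    refine hn ⟨⟨z, show f (i z) ∈ V from hz.symm ▸ x.2⟩, ?_⟩
    refine (f ⁻¹ᵁ V).ι.isOpenEmbedding.injective ?_
    rw [← Scheme.Hom.comp_apply, morphismRestrict_ι, Scheme.Hom.comp_apply]
    exact hz)
  exact good_of_iso e.symm ((good_push_finite_iff i' (f ∣_ V) _).2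
    (good_finite (i' ≫ f ∣_ V) _ (cons_pull i' (cons_pull _ hK))))

end Groth.L23.PFin
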