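import Groth.Agent.L23.PFin.SmoothCard
import Groth.Agent.L23.PFin.Small
import Groth.Agent.L23.PFin.Generic
import Groth.Agent.L23.PFin.Model
import Groth.Agent.L21.AffCd.Birational
import Groth.Agent.L28.CurveCd.GenIso

/-!
# Constant coefficients on proper families of curves
-/

set_option autoImplicit false
set_option linter.style.haveILetI false
set_option linter.unusedSectionVars false
set_option backward.isDefEq.respectTransparency false
set_option backward.isDefEq.respectTransparency.types false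

universe u

open CategoryTheory CategoryTheory.Limits AlgebraicGeometry Opposite TopologicalSpace

noncomputable section

namespace Groth.L23.PFin

instance preservesFiniteColimits_pull {X Y : Scheme.{u}} (f : X ⟶ Y) : PreservesFiniteColimits (EtCoh.pull f) :=
  haveI : PreservesColimitsOfSize.{0, 0} (EtCoh.pull f) := (EtCoh.pullPushAdj f).leftAdjoint_preservesColimits
  PreservesColimitsOfSize.preservesFiniteColimits _

/-- The sheaves which are constructible and torsion over an open. -/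
abbrev ConsOn {T : Scheme.{u}} (U : T.Opens) : ObjectProperty (EtCoh.Ab T) :=
  (Cons U.toScheme).inverseImage (EtCoh.pull U.ι)

theorem isNoetherian_opens {T : Scheme.{u}} [AlgebraicGeometry.IsNoetherian T] (U : T.Opens) :
    AlgebraicGeometry.IsNoetherian U.toScheme := by
  haveI : IsLocallyNoetherian U.toScheme := LocallyOfFiniteType.isLocallyNoetherian U.ι
  haveI : CompactSpace U.toScheme := isCompact_iff_compactSpace.1 (NoetherianSpace.isCompact (U : Set T))
  exact {}

theorem isSerreClass_consOn {T : Scheme.{u}} [AlgebraicGeometry.IsNoetherian T] (U : T.Opens) :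
    (ConsOn U).IsSerreClass := by
  haveI := Groth.L27.EtSite.preservesFiniteLimits_pull U.ι
  haveI : AlgebraicGeometry.IsNoetherian U.toScheme := isNoetherian_opens U
  exact inferInstanceAs ((Cons U.toScheme).inverseImage (EtCoh.pull U.ι)).IsSerreClass

theorem cons_const (X : Scheme.{u}) (p : ℕ) [Fact p.Prime] : Cons X (EtCoh.const X (ZMod p)) := by
  refine cons_of_killedBy (Fact.out (p := p.Prime)).pos (Groth.L21.CurveFin.isConstructible_const X (ZMod p)) ?_
  intro U s
  have := Groth.L27.ProperH1.killedBy_const (Y := X) (ZMod p) U s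
  rwa [Nat.card_zmod] at this

theorem dim_pullback_le_of_finite {N X T : Scheme.{u}} (μ : N ⟶ X) [IsFinite μ] (f : X ⟶ T) {W : Scheme.{u}}
    (t : W ⟶ T) (d : ℕ) (h : topologicalKrullDim ↥(pullback f t) ≤ d) :
    topologicalKrullDim ↥(pullback (μ ≫ f) t) ≤ d := by
  let m : pullback (μ ≫ f) t ⟶ pullback f t := pullback.map _ _ _ _ μ (𝟙 _) (𝟙 _) (by simp) (by simp)
  have sq : IsPullback (pullback.fst (μ ≫ f) t) m μ (pullback.fst f t) := by
    refine IsPullback.of_bot ?_ (by simp [m]) (IsPullback.of_hasPullback f t)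
    rw [show m ≫ pullback.snd f t = pullback.snd (μ ≫ f) t by simp [m]]
    exact IsPullback.of_hasPullback (μ ≫ f) t
  haveI : IsFinite m := MorphismProperty.of_isPullback (P := @IsFinite) sq inferInstance
  exact (Groth.L19.topologicalKrullDim_le_of_isIntegralHom m).trans h

/-- The generic step. -/
theorem exists_open_consOn_const {X T : Scheme.{u}} [IsIntegral T] [AlgebraicGeometry.IsNoetherian T]
    (f : X ⟶ T) [IsProper f] (hdim : ∀ t : T, topologicalKrullDim (f.fiber t) ≤ 1) {N : Scheme.{u}}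
    (μ : N ⟶ X) [IsFinite μ] [Smooth (μ ≫ f)] (hl : HasGenericLifts f μ) (p : ℕ) [Fact p.Prime] :
    ∃ U : T.Opens, genericPoint T ∈ U ∧ ∀ q, ConsOn U ((EtCoh.Rpush f q).obj (EtCoh.const X (ZMod p))) := by
  haveI : IsLocallyNoetherian X := LocallyOfFiniteType.isLocallyNoetherian f
  haveI : CompactSpace X := QuasiCompact.compactSpace_of_compactSpace f
  haveI : AlgebraicGeometry.IsNoetherian X := {}
  haveI : LocallyOfFinitePresentation μ := LocallyOfFinitePresentation.iff_locallyOfFiniteType.2 inferInstance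
  haveI : IsProper (μ ≫ f) := inferInstance
  let F : EtCoh.Ab X := EtCoh.const X (ZMod p)
  let C : EtCoh.Ab N := EtCoh.const N (ZMod p)
  let G : EtCoh.Ab X := (EtCoh.push μ).obj C
  let φ : F ⟶ G := Groth.L21.AffCd.constRes μ (ZMod p)
  have hF : Cons X F := cons_const X p
  have hG : Cons X G := good_zero_push (good_finite μ C (cons_const N p))
  have hb : ∀ (Ω : Type u) [Field Ω] [IsSepClosed Ω] (ξ : Spec (CommRingCat.of Ω) ⟶ X),
      f (ξ default) = genericPoint T → (∃ y', f y' = genericPoint T ∧ ξ default ⤳ y' ∧ y' ≠ ξ default) →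
      Function.Bijective ((EtCoh.stalk ξ).map φ) := by
    intro Ω _ _ ξ hξ ⟨y', hy', hsp, hne⟩
    obtain ⟨Ω', _, _, ξ', hξ', hu⟩ := hl _ y' hξ hy' hsp hne
    exact Groth.L21.AffCd.bijective_stalk_of_point φ ξ ξ' hξ'
      (Groth.L21.AffCd.bijective_stalk_constRes μ (ZMod p) ξ' hu)
  have small : ∀ K : EtCoh.Ab X, Cons X K →
      (∀ (Ω : Type u) [Field Ω] [IsSepClosed Ω] (ξ : Spec (CommRingCat.of Ω) ⟶ X),
        Function.Bijective ((EtCoh.stalk ξ).map φ) → IsZero ((EtCoh.stalk ξ).obj K)) →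
      ∃ U : T.Opens, genericPoint T ∈ U ∧ ∀ V : T.Opens, V ≤ U → ∀ q, ConsOn V ((EtCoh.Rpush f q).obj K) := by
    intro K hK hz
    obtain ⟨U, hU, hgood⟩ := exists_open_good_small f K hK fun e he hfe y hy hey => by
      by_contra hne
      obtain ⟨Ω, _, _, ξ, hξ, hnz⟩ := he
      have hd : ξ default = e := Groth.L28.Spz.default_eq_of_range hξ
      exact hnz (hz Ω ξ (hb Ω ξ (hd.symm ▸ hfe) ⟨y, hy, hd.symm ▸ hey, hd.symm ▸ hne⟩))
    refine ⟨U, hU, fun V hV q => ?_⟩
    haveI := Groth.L27.EtSite.preservesFiniteLimits_pull (f ⁻¹ᵁ V).ι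
    haveI := Groth.L27.PBC.isIso_bcQ f V.ι (f ∣_ V) (f ⁻¹ᵁ V).ι (isPullback_morphismRestrict f V).flip q K
      (isTorsion_of_cons hK)
    exact cons_of_iso (asIso (EtBC.bcQ f V.ι (f ∣_ V) (f ⁻¹ᵁ V).ι (isPullback_morphismRestrict f V).flip.w q K)).symm
      (hgood V hV q)
  have hKC : Cons X (kernel φ) ∧ Cons X (cokernel φ) :=
    ⟨(Cons X).prop_of_mono (kernel.ι φ) hF, (Cons X).prop_of_epi (cokernel.π φ) hG⟩
  obtain ⟨U₁, hU₁, h₁⟩ := small _ hKC.1 fun Ω _ _ ξ h => Groth.L28.CurveCd.isZero_stalk_kernel φ ξ h.1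
  obtain ⟨U₂, hU₂, h₂⟩ := small _ hKC.2 fun Ω _ _ ξ h => Groth.L28.CurveCd.isZero_stalk_cokernel φ ξ h.2
  obtain ⟨U₃, hU₃, h₃⟩ := exists_open_isFLC_smooth_curve (μ ≫ f) p fun t =>
    dim_pullback_le_of_finite μ f (T.fromSpecResidueField t) 1 (hdim t)
  let U := U₁ ⊓ U₂ ⊓ U₃
  haveI := isSerreClass_consOn U
  haveI : AlgebraicGeometry.IsNoetherian U.toScheme := isNoetherian_opens U
  refine ⟨U, ⟨⟨hU₁, hU₂⟩, hU₃⟩, fun q => prop_rder_of_ker_coker (EtCoh.push f) (ConsOn U) φ
    (h₁ U (inf_le_left.trans inf_le_left)) (h₂ U (inf_le_left.trans inf_le_right)) (fun i => ?_) q⟩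
  obtain ⟨e⟩ := nonempty_Rpush_comp_iso μ f C (isZero_Rpush_finite μ C) i
  haveI : (EtCoh.pull U.ι).Additive := (EtCoh.pullPushAdj U.ι).left_adjoint_additive
  refine cons_of_iso ((EtCoh.pull U.ι).mapIso e)
    ⟨Groth.L28.Spz.isConstructible_of_isFLC (isFLC_pull_of_le inf_le_right (h₃ i)), ?_⟩
  obtain ⟨n, hn, hk⟩ := (cons_const N p).2
  exact ⟨n, hn, nsmul_id_map (EtCoh.pull U.ι) (nsmul_id_map (EtCoh.Rpush (μ ≫ f) i) hk)⟩

/-- Constant coefficients. -/
theorem good_const_curve {X S : Scheme.{u}} [AlgebraicGeometry.IsNoetherian S] (f : X ⟶ S) [IsProper f]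
    (hdim : ∀ s : S, topologicalKrullDim (f.fiber s) ≤ 1) (p : ℕ) [Fact p.Prime] :
    Good f (EtCoh.const X (ZMod p)) := by
  intro q
  obtain ⟨n, hn, hk⟩ := (cons_const X p).2
  refine ⟨isConstructible_of_generic_pull _ fun T _ _ _ k => ?_, n, hn, nsmul_id_map (EtCoh.Rpush f q) hk⟩
  let fT := pullback.snd f k
  haveI : IsProper fT := MorphismProperty.pullback_snd (P := @IsProper) _ _ inferInstance
  have hdT : ∀ t : T, topologicalKrullDim (fT.fiber t) ≤ 1 := fun t =>
    (IsHomeomorph.topologicalKrullDim_eq _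
      (pullbackLeftPullbackSndIso f k (T.fromSpecResidueField t)).hom.homeomorph.isHomeomorph).trans_le
      (Groth.L27.PBC.topologicalKrullDim_pullback_le f 1 hdim _)
  obtain ⟨T', a, ha, hqa, hint, hnoe, hgen, N, μ, hμ, hsm, hl⟩ := exists_model fT hdT
  haveI := ha; haveI := hqa; haveI := hint; haveI := hnoe; haveI := hμ; haveI := hsm
  let f' := pullback.snd fT a
  haveI : IsProper f' := MorphismProperty.pullback_snd (P := @IsProper) _ _ inferInstance
  obtain ⟨U, hU, hgood⟩ := exists_open_consOn_const f' (fun t =>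
    (IsHomeomorph.topologicalKrullDim_eq _
      (pullbackLeftPullbackSndIso fT a (T'.fromSpecResidueField t)).hom.homeomorph.isHomeomorph).trans_le
      (Groth.L27.PBC.topologicalKrullDim_pullback_le fT 1 hdT _)) μ hl p
  refine ⟨U.toScheme, U.ι ≫ a, inferInstance, inferInstance, ⟨⟨genericPoint T', hU⟩, ?_⟩, ?_⟩
  · rw [Scheme.Hom.comp_apply]
    exact hgen
  let g' := pullback.fst fT a ≫ pullback.fst f k
  have sq : IsPullback g' f' f (a ≫ k) :=
    (IsPullback.of_hasPullback fT a).paste_horiz (IsPullback.of_hasPullback f k)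
  haveI := Groth.L27.EtSite.preservesFiniteLimits_pull g'
  haveI := Groth.L27.PBC.isIso_bcQ f (a ≫ k) f' g' sq q (EtCoh.const X (ZMod p))
    (Groth.L27.PBC.isTorsion_const X (ZMod p))
  refine Groth.L28.Transfer.isConstructible_of_iso ?_ (hgood q).1
  refine (EtCoh.pull U.ι).mapIso ((EtCoh.Rpush f' q).mapIso (EtCore.pullConst g' (ZMod p)).symm ≪≫
    (asIso (EtBC.bcQ f (a ≫ k) f' g' sq.w q (EtCoh.const X (ZMod p)))).symm) ≪≫ ?_
  rw [Category.assoc]
  exact ((EtCore.pullComp U.ι (a ≫ k)).app _).symm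

end Groth.L23.PFin
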