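import Groth.Agent.L23.PFin.Core
import Groth.Agent.L21.CurveFin.Exact
import Groth.Agent.L28.ExtShriek.Split
import Groth.Agent.S0143

/-!
# Constructibility for proper families of curves
-/

set_option autoImplicit false
set_option linter.style.haveILetI false
set_option linter.unusedSectionVars false
set_option backward.isDefEq.respectTransparency false
set_option backward.isDefEq.respectTransparency.types false

universe u

open CategoryTheory CategoryTheory.Limits AlgebraicGeometry Opposite

noncomputable section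

namespace Groth.L23.PFin

open Groth.L27.PBC (liftHom cMap const_additive)

variable {X S : Scheme.{u}} [AlgebraicGeometry.IsNoetherian S]

theorem good_of_splitMono {f : X ⟶ S} {F G : EtCoh.Ab X} (i : F ⟶ G) (r : G ⟶ F) (h : i ≫ r = 𝟙 F)
    (hG : Good f G) : Good f F := fun q => by
  haveI : Mono ((EtCoh.Rpush f q).map i) :=
    mono_of_mono_fac (show (EtCoh.Rpush f q).map i ≫ (EtCoh.Rpush f q).map r = 𝟙 _ by
      rw [← Functor.map_comp, h, CategoryTheory.Functor.map_id])
  exact (Cons S).prop_of_mono ((EtCoh.Rpush f q).map i) (hG q)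

theorem good_biproduct {f : X ⟶ S} {ι : Type} [Finite ι] (G : ι → EtCoh.Ab X) (h : ∀ i, Good f (G i)) :
    Good f (⨁ G) := by
  haveI : ObjectProperty.IsClosedUnderExtensions (fun F : EtCoh.Ab X => Good f F) :=
    ⟨fun hT h₁ h₃ => good_mid hT h₁ h₃⟩
  exact Groth.L28.ExtShriek.prop_biproduct (fun F => Good f F) (fun _ hZ => good_of_isZero hZ)
    (fun e hA => good_of_iso e hA) G h

theorem isZero_const_of_subsingleton (X : Scheme.{u}) (M : Type) [AddCommGroup M] [Subsingleton M] :
    IsZero (EtCoh.const X M) := by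
  haveI := const_additive X
  have h : IsZero (AddCommGrpCat.of (ULift.{u + 1} M)) := AddCommGrpCat.isZero_of_subsingleton _
  exact Functor.map_isZero _ h

/-- Finite abelian constants reduce to cyclic groups of prime order. -/
theorem good_const_of_primes (f : X ⟶ S) (h : ∀ p : ℕ, p.Prime → Good f (EtCoh.const X (ZMod p)))
    (M : Type) [AddCommGroup M] [Finite M] : Good f (EtCoh.const X M) := by
  haveI := const_additive X
  have hpow : ∀ p : ℕ, p.Prime → ∀ e : ℕ, Good f (EtCoh.const X (ZMod (p ^ e))) := fun p hp e => by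
    induction e with
    | zero =>
      haveI : Subsingleton (ZMod (p ^ 0)) := by rw [pow_zero]; infer_instance
      exact good_of_isZero (isZero_const_of_subsingleton X _)
    | succ e ih =>
      obtain ⟨a, b, w, hS⟩ := Groth.L27.PBC.exists_shortExact_pPow p e hp.ne_zero X
      have h1 : Good f (ShortComplex.mk a b w).X₁ := ih
      have h3 : Good f (ShortComplex.mk a b w).X₃ := h p hp
      have h2 := good_mid hS h1 h3
      exact h2
  classical
  obtain ⟨ι₀, _, p, hp, e, ⟨ε⟩⟩ := AddCommGroup.equiv_directSum_zmod_of_finite M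
  let π : ∀ j, M →+ ZMod (p j ^ e j) := fun j => (DFinsupp.evalAddMonoidHom j).comp ε.toAddMonoidHom
  let κ : ∀ j, ZMod (p j ^ e j) →+ M := fun j =>
    ε.symm.toAddMonoidHom.comp (DirectSum.of (fun j => ZMod (p j ^ e j)) j)
  have hid : ∑ j, liftHom.{u} (π j) ≫ liftHom (κ j) = 𝟙 _ := by
    refine ConcreteCategory.hom_ext _ _ fun m => (Groth.L27.PBC.hom_sum_apply _ _ m).trans ?_
    obtain ⟨m⟩ := m
    refine ULift.ext _ _ (ε.injective ?_)
    refine Eq.trans (congrArg ε (map_sum (AddEquiv.ulift : ULift.{u + 1} M ≃+ M) _ _)) ?_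
    rw [map_sum]
    refine Eq.trans ?_ (DirectSum.sum_univ_of (ε m))
    exact Finset.sum_congr rfl fun j _ => ε.apply_symm_apply _
  let n := Fintype.card ι₀
  let eI := (Fintype.equivFin ι₀).symm
  let Z : Fin n → EtCoh.Ab X := fun i => EtCoh.const X (ZMod (p (eI i) ^ e (eI i)))
  refine good_of_splitMono (biproduct.lift fun i => cMap X (π (eI i))) (biproduct.desc fun i => cMap X (κ (eI i))) ?_
    (good_biproduct Z fun i => hpow (p (eI i)) (hp (eI i)) (e (eI i)))
  rw [biproduct.lift_desc, eI.sum_comp (fun j => cMap X (π j) ≫ cMap X (κ j))]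
  have hC := congrArg (fun g => (constantSheaf X.smallEtaleTopology AddCommGrpCat.{u + 1}).map g) hid
  simp only [Functor.map_sum, Functor.map_comp, CategoryTheory.Functor.map_id] at hC
  exact hC

/-- Proper morphisms with fibres of dimension at most one preserve the class. -/
theorem good_curve (f : X ⟶ S) [IsProper f] (hdim : ∀ s : S, topologicalKrullDim (f.fiber s) ≤ 1)
    (F : EtCoh.Ab X) (hF : Cons X F) : Good f F := by
  haveI : IsLocallyNoetherian X := LocallyOfFiniteType.isLocallyNoetherian f
  haveI : CompactSpace X := QuasiCompact.compactSpace_of_compactSpace f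
  haveI : AlgebraicGeometry.IsNoetherian X := {}
  have embed : ∀ F : EtCoh.Ab X, Cons X F → ∃ T : ShortComplex (EtCoh.Ab X), T.ShortExact ∧ T.X₁ = F ∧
      Good f T.X₂ ∧ Cons X T.X₃ := by
    intro F hF
    obtain ⟨n, Y, g, hg, M, hM₁, hM₂, h⟩ := Groth.Agent.S0143.result X F hF.1
    obtain ⟨ι, hι⟩ := h
    haveI := hg; haveI := hι
    haveI : ∀ i, LocallyOfFinitePresentation (g i) := fun i =>
      LocallyOfFinitePresentation.iff_locallyOfFiniteType.2 inferInstance
    haveI : ∀ i, AlgebraicGeometry.IsNoetherian (Y i) := fun i =>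
      haveI : IsLocallyNoetherian (Y i) := LocallyOfFiniteType.isLocallyNoetherian (g i)
      haveI : CompactSpace (Y i) := QuasiCompact.compactSpace_of_compactSpace (g i)
      {}
    let G : Fin n → EtCoh.Ab X := fun i => (EtCoh.push (g i)).obj (EtCoh.const (Y i) (M i))
    have hG : ∀ i, Good f (G i) := fun i => by
      refine (good_push_finite_iff (g i) f _).2 (good_const_of_primes (g i ≫ f) (fun p hp => ?_) (M i))
      haveI : Fact p.Prime := ⟨hp⟩
      exact good_const_curve (g i ≫ f)
        (fun s => dim_pullback_le_of_finite (g i) f (S.fromSpecResidueField s) 1 (hdim s)) p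
    have hGc : ∀ i, Cons X (G i) := fun i => good_zero_push (good_finite (g i) _ (by
      refine cons_of_killedBy (Nat.card_pos (α := M i)) (Groth.L21.CurveFin.isConstructible_const (Y i) (M i)) ?_
      exact Groth.L27.ProperH1.killedBy_const (M i)))
    refine ⟨ShortComplex.mk ι (cokernel.π ι) (cokernel.condition ι),
      { exact := ShortComplex.exact_of_g_is_cokernel _ (cokernelIsCokernel _) }, rfl, good_biproduct G hG, ?_⟩
    exact (Cons X).prop_of_epi (cokernel.π ι)
      (Groth.L28.ExtShriek.prop_biproduct (Cons X) (fun _ hZ => cons_of_isZero hZ) (fun e hA => cons_of_iso e hA) G hGc)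
  intro q
  induction q generalizing F with
  | zero =>
    obtain ⟨T, hT, rfl, h₂, -⟩ := embed F hF
    exact prop_rder_left_zero (EtCoh.push f) (Cons S) hT (h₂ 0)
  | succ q ih =>
    obtain ⟨T, hT, rfl, h₂, h₃⟩ := embed F hF
    exact prop_rder_left (EtCoh.push f) (Cons S) hT q (ih T.X₃ h₃) (h₂ (q + 1))

end Groth.L23.PFin
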