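import Groth.Agent.L23.PFin.Acyclic
import Groth.Agent.L27.HenselClosed.Main

/-!
# Descending the property along proper surjections
-/

set_option autoImplicit false
set_option linter.style.haveILetI false
set_option linter.unusedSectionVars false
set_option backward.isDefEq.respectTransparency false
set_option backward.isDefEq.respectTransparency.types false

universe w v u v' u' v'' u''

open CategoryTheory CategoryTheory.Limits

namespace Groth.L23.PFin

section

variable {C : Type u} [Category.{v} C] [Abelian C] [EnoughInjectives C] [HasInjectiveResolutions C]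
  {C' : Type u''} [Category.{v''} C'] [Abelian C'] [EnoughInjectives C'] [HasInjectiveResolutions C']
  {D : Type u'} [Category.{v'} D] [Abelian D]
  (T : C ⥤ C') [T.Additive] [PreservesFiniteLimits T] [T.PreservesInjectiveObjects]
  (S : C' ⥤ D) [S.Additive] [PreservesFiniteLimits S] (P : ObjectProperty D) [P.IsSerreClass]

/-- The derived functors of the second functor on the image of the first. -/
theorem prop_rder_of_comp : ∀ (q : ℕ) (A : C),
    (∀ n, P (((T ⋙ S).rightDerived (n + 1)).obj A)) →
    (∀ i < q, ∀ j, P ((S.rightDerived i).obj ((T.rightDerived (j + 1)).obj A))) →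
    P ((S.rightDerived (q + 1)).obj (T.obj A)) := by
  intro q
  induction q with
  | zero =>
    intro A h₀ _
    let E : ShortComplex C := ShortComplex.mk (Injective.ι A) (cokernel.π (Injective.ι A)) (cokernel.condition _)
    have hE : E.ShortExact := { exact := ShortComplex.exact_of_g_is_cokernel _ (cokernelIsCokernel _) }
    haveI : Injective E.X₂ := inferInstanceAs (Injective (Injective.under A))
    haveI : PreservesFiniteLimits (T ⋙ S) := comp_preservesFiniteLimits T S
    obtain ⟨M, a, b, w, hs₁, hs₂, hab, ⟨ec⟩⟩ := exists_image_ses T hE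
    haveI : Injective (T.obj E.X₂) := Functor.injective_obj T E.X₂
    obtain ⟨e₁⟩ := nonempty_cokernel_iso S (T := ShortComplex.mk (T.map E.f) a w) hs₁
    refine P.prop_of_iso e₁ ?_
    obtain ⟨e₀⟩ := nonempty_cokernel_iso (T ⋙ S) hE
    have hbm : Mono (S.map b) := by
      haveI := hs₂.mono_f
      infer_instance
    have hk : P (kernel (S.map b)) :=
      P.prop_of_isZero ((isZero_zero D).of_iso (kernel.ofMono (S.map b)))
    have hab' : S.map a ≫ S.map b = (T ⋙ S).map E.g := by
      rw [← Functor.map_comp, hab, Functor.comp_map]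
    refine P.prop_X₂_of_exact ((kernelCokernelCompSequence_exact (S.map a) (S.map b)).exact 2) hk ?_
    exact P.prop_of_iso (cokernelIsoOfEq hab').symm (P.prop_of_iso e₀.symm (h₀ 0))
  | succ q ih =>
    intro A h₀ h₁
    let E : ShortComplex C := ShortComplex.mk (Injective.ι A) (cokernel.π (Injective.ι A)) (cokernel.condition _)
    have hE : E.ShortExact := { exact := ShortComplex.exact_of_g_is_cokernel _ (cokernelIsCokernel _) }
    haveI : Injective E.X₂ := inferInstanceAs (Injective (Injective.under A))
    obtain ⟨M, a, b, w, hs₁, hs₂, hab, ⟨ec⟩⟩ := exists_image_ses T hE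
    haveI : Injective (T.obj E.X₂) := Functor.injective_obj T E.X₂
    obtain ⟨eS⟩ := nonempty_shift_iso S (T := ShortComplex.mk (T.map E.f) a w) hs₁ q
    refine P.prop_of_iso eS ?_
    obtain ⟨eR⟩ := nonempty_cokernel_iso T hE
    refine prop_rder_left S P hs₂ q (P.prop_of_iso ((S.rightDerived q).mapIso (ec ≪≫ eR).symm)
      (h₁ q (Nat.lt_succ_self q) 0)) (ih E.X₃ (fun n => ?_) fun i hi j => ?_)
    · haveI : PreservesFiniteLimits (T ⋙ S) := comp_preservesFiniteLimits T S
      obtain ⟨e⟩ := nonempty_shift_iso (T ⋙ S) hE n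
      exact P.prop_of_iso e.symm (h₀ (n + 1))
    · obtain ⟨e⟩ := nonempty_shift_iso T hE j
      exact P.prop_of_iso ((S.rightDerived i).mapIso e.symm) (h₁ i (hi.trans (Nat.lt_succ_self q)) (j + 1))

end

open AlgebraicGeometry Opposite

theorem cons_push_pull {Y X : Scheme.{u}} (π : Y ⟶ X) {F : EtCoh.Ab X} (hF : Cons X F)
    (hπ : ∀ H : EtCoh.Ab Y, Cons Y H → Good π H) :
    Cons X ((EtCoh.push π).obj ((EtCoh.pull π).obj F)) := by
  haveI : (EtCoh.pull π).Additive := (EtCoh.pullPushAdj π).left_adjoint_additive
  exact good_zero_push (hπ _ ⟨Groth.L28.ExtShriek.isConstructible_pull π hF.1, hF.2.choose, hF.2.choose_spec.1,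
    nsmul_id_map (EtCoh.pull π) hF.2.choose_spec.2⟩)

/-- Descent along a surjection which itself has the property. -/
theorem good_of_surjective {Y X S : Scheme.{u}} [AlgebraicGeometry.IsNoetherian X]
    [AlgebraicGeometry.IsNoetherian S] (π : Y ⟶ X) [Surjective π] (f : X ⟶ S)
    (hπ : ∀ H : EtCoh.Ab Y, Cons Y H → Good π H) (hπf : ∀ H : EtCoh.Ab Y, Cons Y H → Good (π ≫ f) H)
    (F : EtCoh.Ab X) (hF : Cons X F) : Good f F := by
  intro q
  induction q using Nat.strong_induction_on generalizing F with
  | _ q ih =>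
    haveI : (EtCoh.pull π).Additive := (EtCoh.pullPushAdj π).left_adjoint_additive
    let H := (EtCoh.pull π).obj F
    have hH : Cons Y H := ⟨Groth.L28.ExtShriek.isConstructible_pull π hF.1, hF.2.choose, hF.2.choose_spec.1,
      nsmul_id_map (EtCoh.pull π) hF.2.choose_spec.2⟩
    haveI := Groth.L27.HenselClosed.mono_unit π F
    let u : F ⟶ (EtCoh.push π).obj H := (EtCoh.pullPushAdj π).unit.app F
    let E : ShortComplex (EtCoh.Ab X) := ShortComplex.mk u (cokernel.π u) (cokernel.condition u)
    haveI : Mono E.f := inferInstanceAs (Mono ((EtCoh.pullPushAdj π).unit.app F))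
    have hE : E.ShortExact := { exact := ShortComplex.exact_of_g_is_cokernel _ (cokernelIsCokernel _) }
    have hTS : ∀ n, Cons S (((EtCoh.push π ⋙ EtCoh.push f).rightDerived n).obj H) := fun n => by
      obtain ⟨e⟩ := Groth.L28.Supp.nonempty_rightDerived_iso (EtCoh.pushComp f π) n H
      exact cons_of_iso e.symm (hπf H hH n)
    rcases q with _ | q
    · refine prop_rder_left_zero (EtCoh.push f) (Cons S) hE ?_
      refine cons_of_iso ((EtCoh.push f).rightDerivedZeroIsoSelf.app _).symm ?_
      haveI : PreservesFiniteLimits (EtCoh.push π ⋙ EtCoh.push f) := comp_preservesFiniteLimits _ _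
      exact cons_of_iso ((EtCoh.push π ⋙ EtCoh.push f).rightDerivedZeroIsoSelf.app H) (hTS 0)
    · refine prop_rder_left (EtCoh.push f) (Cons S) hE q (ih q (Nat.lt_succ_self q) E.X₃ ?_) ?_
      · exact (Cons X).prop_of_epi (cokernel.π u) (cons_push_pull π hF hπ)
      · exact prop_rder_of_comp (EtCoh.push π) (EtCoh.push f) (Cons S) q H (fun n => hTS (n + 1))
          fun i hi j => ih i (hi.trans (Nat.lt_succ_self q)) _ (hπ H hH (j + 1))

end Groth.L23.PFin
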