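import Groth.Agent.L23.PFin.Proper
import Groth.Agent.L27.PBC.StalkH
import Groth.Agent.L28.ExtShriek.Constr
import Groth.Agent.L28.Spz.Card

/-!
# Finiteness of the cohomology of proper schemes over separably closed fields
-/

set_option autoImplicit false
set_option linter.style.haveILetI false
set_option linter.unusedSectionVars false
set_option backward.isDefEq.respectTransparency false
set_option backward.isDefEq.respectTransparency.types false

universe u

open CategoryTheory CategoryTheory.Limits AlgebraicGeometry Opposite

noncomputable section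

namespace Groth.L23.PFin

/-- Constructible torsion sheaves on proper schemes over separably closed fields have finite cohomology. -/
theorem finite_H_of_cons {k : Type u} [Field k] [IsSepClosed k] {X : Scheme.{u}}
    (a : X ⟶ Spec (CommRingCat.of k)) [IsProper a] (F : EtCoh.Ab X) (hF : Cons X F) (q : ℕ) :
    Finite (EtCoh.H X F q) := by
  haveI := Groth.L27.SepClosedPoint.isSepClosed_residueField k
  obtain ⟨e⟩ := Groth.L27.PBC.nonempty_gsec_Rpush k a q
  obtain ⟨e'⟩ := Groth.L27.PBC.nonempty_stalk_closedPt_gsec k
  haveI : Finite ((EtCoh.stalk (Groth.L27.EtSite.closedPt k)).obj ((EtCoh.Rpush a q).obj F)) :=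
    Groth.L28.Spz.finite_stalk' (good_proper a F hF q).1 _
  exact Finite.of_equiv _ ((e'.app ((EtCoh.Rpush a q).obj F)).symm ≪≫ e.app F).addCommGroupIsoToAddEquiv.toEquiv

/-- Extension by zero along open immersions into noetherian schemes. -/
theorem cons_extZero {U P : Scheme.{u}} [AlgebraicGeometry.IsNoetherian P] (j : U ⟶ P) [IsOpenImmersion j]
    {F : EtCoh.Ab U} (hF : Cons U F) : Cons P ((EtShriek.extZero j).obj F) := by
  haveI : (EtShriek.extZero j).Additive := (EtShriek.extZeroAdj j).left_adjoint_additive
  haveI : QuasiCompact j := inferInstance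
  exact ⟨Groth.L28.ExtShriek.isConstructible_extZero' j hF.1, hF.2.choose, hF.2.choose_spec.1,
    nsmul_id_map (EtShriek.extZero j) hF.2.choose_spec.2⟩

end Groth.L23.PFin
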