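import Groth.Agent.L21.AffCd.Completion
import Groth.Agent.L28.CurveCd.GenericLeray
import Groth.Agent.L28.CurveCd.Main
import Groth.Agent.L18.CurveBasic
import Groth.Agent.L23.Chow.SchemeSurj
import Groth.Agent.L19.IntegralHom
import Groth.Agent.S1585

/-!
# A smooth model of the one dimensional part of a proper curve
-/

set_option autoImplicit false
set_option linter.style.haveILetI false
set_option linter.unusedSectionVars false
set_option backward.isDefEq.respectTransparency false
set_option backward.isDefEq.respectTransparency.types false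

universe u

open CategoryTheory CategoryTheory.Limits AlgebraicGeometry Opposite TopologicalSpace

namespace Groth.L23.PFin

/-- The normalisation of an integral curve over an algebraically closed field. -/
theorem exists_norm_integral {k : Type u} [Field k] [IsAlgClosed k] {L : Scheme.{u}} [IsIntegral L]
    (g : L ⟶ Spec (CommRingCat.of k)) [LocallyOfFiniteType g] [QuasiCompact g] (hd : topologicalKrullDim L ≤ 1) :
    ∃ (N : Scheme.{u}) (ν : N ⟶ L), IsFinite ν ∧ Smooth (ν ≫ g) ∧
      ∀ (Ω : Type u) [Field Ω] (ξ : Spec (CommRingCat.of Ω) ⟶ L), ξ default = genericPoint L →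
        ∃! v : Spec (CommRingCat.of Ω) ⟶ N, v ≫ ν = ξ := by
  letI : L.Over (Spec (CommRingCat.of k)) := ⟨g⟩
  haveI : LocallyOfFiniteType (L ↘ (Spec (CommRingCat.of k))) := ‹LocallyOfFiniteType g›
  haveI : IsLocallyNoetherian L := LocallyOfFiniteType.isLocallyNoetherian g
  haveI : CompactSpace L := QuasiCompact.compactSpace_of_compactSpace g
  haveI : AlgebraicGeometry.IsNoetherian L := {}
  haveI : QuasiCompact (L.fromSpecStalk (genericPoint L)) := inferInstance
  haveI : QuasiSeparated (L.fromSpecStalk (genericPoint L)) := inferInstance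
  obtain ⟨hfin, -, ⟨V, hV, hiso⟩, hint, hnor⟩ := Groth.Agent.S1585.result k L
  haveI := hfin
  haveI := hint
  haveI := hiso
  refine ⟨Curv2.normalization L, Curv2.normalizationι L, hfin,
    Groth.L21.AffCd.smooth_of_normal _
      ((Groth.L19.topologicalKrullDim_le_of_isIntegralHom (Curv2.normalizationι L)).trans hd) hnor,
    fun Ω _ ξ hξ => ?_⟩
  let ν := Curv2.normalizationι L
  have hr : Set.range ξ ⊆ Set.range V.ι := by
    rintro _ ⟨z, rfl⟩
    rw [Scheme.Opens.range_ι, Subsingleton.elim (α := Spec (CommRingCat.of Ω)) z default]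
    exact hξ.symm ▸ ((genericPoint_spec L).mem_open_set_iff V.2).2 (by simpa using hV)
  let ξ' := IsOpenImmersion.lift V.ι ξ hr
  refine ⟨ξ' ≫ inv (ν ∣_ V) ≫ (ν ⁻¹ᵁ V).ι, ?_, fun w hw => ?_⟩
  · show (ξ' ≫ inv (ν ∣_ V) ≫ (ν ⁻¹ᵁ V).ι) ≫ ν = ξ
    rw [Category.assoc, Category.assoc, ← morphismRestrict_ι, IsIso.inv_hom_id_assoc, IsOpenImmersion.lift_fac]
  · have hw' : Set.range w ⊆ Set.range (ν ⁻¹ᵁ V).ι := by
      rintro _ ⟨z, rfl⟩
      rw [Scheme.Opens.range_ι]
      show ν (w z) ∈ V
      rw [← Scheme.Hom.comp_apply, show w ≫ ν = ξ from hw, Subsingleton.elim (α := Spec (CommRingCat.of Ω)) z default,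
        hξ]
      exact ((genericPoint_spec L).mem_open_set_iff V.2).2 (by simpa using hV)
    have h1 : IsOpenImmersion.lift (ν ⁻¹ᵁ V).ι w hw' ≫ ν ∣_ V = ξ' := by
      rw [← cancel_mono V.ι, Category.assoc, morphismRestrict_ι, IsOpenImmersion.lift_fac_assoc,
        IsOpenImmersion.lift_fac]
      exact hw
    rw [← h1, Category.assoc, IsIso.hom_inv_id_assoc, IsOpenImmersion.lift_fac]

/-- A finite morphism from a smooth curve, bijective over the points which are not closed. -/
theorem exists_norm_family {k : Type u} [Field k] [IsAlgClosed k] {C : Scheme.{u}}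
    (f : C ⟶ Spec (CommRingCat.of k)) [IsProper f] (hd : topologicalKrullDim C ≤ 1) :
    ∃ (N : Scheme.{u}) (μ : N ⟶ C), IsFinite μ ∧ Smooth (μ ≫ f) ∧
      ∀ x : C, ¬ IsClosed ({x} : Set C) → ∀ (Ω : Type u) [Field Ω] (ξ : Spec (CommRingCat.of Ω) ⟶ C),
        ξ default = x → ∃! v : Spec (CommRingCat.of Ω) ⟶ N, v ≫ μ = ξ := by
  classical
  haveI : IsLocallyNoetherian C := LocallyOfFiniteType.isLocallyNoetherian f
  haveI : CompactSpace C := QuasiCompact.compactSpace_of_compactSpace f
  haveI : AlgebraicGeometry.IsNoetherian C := {}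
  haveI := Groth.L28.CurveCd.finite_not_closed (X := C) hd
  let ι := {x : C // ¬ IsClosed ({x} : Set C)}
  have key : ∀ x : ι, ∃ (N : Scheme.{u}) (μ : N ⟶ C), IsFinite μ ∧ Smooth (μ ≫ f) ∧
      Set.range μ ⊆ closure {x.1} ∧ ∀ (Ω : Type u) [Field Ω] (ξ : Spec (CommRingCat.of Ω) ⟶ C),
        ξ default = x.1 → ∃! v : Spec (CommRingCat.of Ω) ⟶ N, v ≫ μ = ξ := by
    intro x
    let J := Scheme.IdealSheafData.vanishingIdeal (⟨closure {x.1}, isClosed_closure⟩ : Closeds C)
    let i : J.subscheme ⟶ C := J.subschemeι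
    haveI : IsClosedImmersion i := inferInstanceAs (IsClosedImmersion J.subschemeι)
    have hri : Set.range i = closure {x.1} := by
      rw [Scheme.IdealSheafData.range_subschemeι, Scheme.IdealSheafData.coe_support_vanishingIdeal]
      rfl
    haveI : IsReduced J.subscheme := Groth.L18.isReduced_vanishingIdeal_subscheme _
    obtain ⟨z, hz⟩ : x.1 ∈ Set.range i := hri.symm ▸ subset_closure rfl
    have hgen : ∀ w, z ⤳ w := fun w => by
      refine i.isClosedEmbedding.isInducing.specializes_iff.1 ?_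
      rw [show i.base z = x.1 from hz]
      exact specializes_iff_mem_closure.2 (hri ▸ ⟨w, rfl⟩)
    haveI : IrreducibleSpace J.subscheme :=
      { toNonempty := ⟨z⟩
        isPreirreducible_univ :=
          (show closure ({z} : Set J.subscheme) = Set.univ from Set.eq_univ_of_forall fun w => (hgen w).mem_closure)
            ▸ isIrreducible_singleton.closure.isPreirreducible }
    haveI : IsIntegral J.subscheme := isIntegral_of_irreducibleSpace_of_isReduced _
    have hgz : genericPoint J.subscheme = z :=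
      (genericPoint_spec J.subscheme).eq (Set.eq_univ_of_forall fun w => (hgen w).mem_closure)
    haveI : LocallyOfFiniteType (i ≫ f) := inferInstance
    haveI : QuasiCompact (i ≫ f) := inferInstance
    obtain ⟨N, ν, hν, hsm, hu⟩ := exists_norm_integral (i ≫ f)
      (i.isClosedEmbedding.isEmbedding.isInducing.topologicalKrullDim_le.trans hd)
    refine ⟨N, ν ≫ i, inferInstance, by rwa [Category.assoc], ?_, fun Ω _ ξ hξ => ?_⟩
    · rintro _ ⟨w, rfl⟩
      rw [Scheme.Hom.comp_apply]
      exact hri ▸ ⟨ν w, rfl⟩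
    haveI : IsReduced (Spec (CommRingCat.of Ω)) := inferInstance
    obtain ⟨l, hl⟩ := Groth.L28.ExtShriek.exists_factor_immersion i ξ (by
      rintro _ ⟨w, rfl⟩
      rw [Subsingleton.elim (α := Spec (CommRingCat.of Ω)) w default, hξ]
      exact ⟨z, hz⟩)
    obtain ⟨v, hv, hvu⟩ := hu Ω l (i.isClosedEmbedding.injective (by
      rw [← Scheme.Hom.comp_apply, hl, hgz, hz]
      exact hξ))
    refine ⟨v, ?_, fun w hw => hvu w ?_⟩
    · show v ≫ ν ≫ i = ξ
      rw [← Category.assoc, hv, hl]
    · show w ≫ ν = l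
      rw [← cancel_mono i, Category.assoc, show w ≫ ν ≫ i = ξ from hw, hl]
  choose N μ hμ hsm hr hu using key
  haveI := hμ
  refine ⟨∐ N, Sigma.desc μ, Groth.L23.Chow.isFinite_sigmaDesc μ, ?_, fun x hx Ω _ ξ hξ => ?_⟩
  · rw [show Sigma.desc μ ≫ f = Sigma.desc (fun i => μ i ≫ f) from Sigma.hom_ext _ _ fun i => by simp]
    exact IsZariskiLocalAtSource.sigmaDesc (P := @Smooth) hsm
  obtain ⟨v, hv, hvu⟩ := hu ⟨x, hx⟩ Ω ξ hξ
  refine ⟨v ≫ Sigma.ι N ⟨x, hx⟩, by simpa using hv, fun w hw => ?_⟩
  obtain ⟨j, y, hy⟩ := (sigmaOpenCover N).exists_eq (w default)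
  have hrw : Set.range w ⊆ Set.range (Sigma.ι N j) := by
    rintro _ ⟨z, rfl⟩
    rw [Subsingleton.elim (α := Spec (CommRingCat.of Ω)) z default]
    exact ⟨y, hy⟩
  let w' := IsOpenImmersion.lift (Sigma.ι N j) w hrw
  have hw' : w' ≫ μ j = ξ := by
    rw [← hw, ← IsOpenImmersion.lift_fac (Sigma.ι N j) w hrw, Category.assoc, Sigma.ι_desc]
  have hj : j = ⟨x, hx⟩ := by
    have hm : x ∈ closure {j.1} := hr j ⟨w' default, by rw [← Scheme.Hom.comp_apply, hw', hξ]⟩
    by_contra hne
    exact Groth.L28.CurveCd.not_specializes hd hx (fun e => hne (Subtype.ext e.symm)) hm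
  subst hj
  rw [← IsOpenImmersion.lift_fac (Sigma.ι N _) w hrw, show IsOpenImmersion.lift (Sigma.ι N _) w hrw = v from hvu w' hw']

end Groth.L23.PFin
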