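import Groth.Agent.L23.PFin.Curve
import Groth.Agent.L23.PFin.Descend
import Groth.Agent.L16.ProjSpace.Dim
import Groth.Agent.L16.ProjSpace.BaseChange
import Groth.Agent.L18.PowProjLine
import Groth.Agent.S7409

/-!
# Constructibility of proper direct images over a Noetherian base
-/

set_option autoImplicit false
set_option linter.style.haveILetI false
set_option linter.unusedSectionVars false
set_option backward.isDefEq.respectTransparency false
set_option backward.isDefEq.respectTransparency.types false

universe u

open CategoryTheory CategoryTheory.Limits AlgebraicGeometry Opposite CohB1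

noncomputable section

namespace Groth.L23.PFin

variable {X S : Scheme.{u}}

theorem isNoetherian_of_lft [AlgebraicGeometry.IsNoetherian S] (f : X ⟶ S) [LocallyOfFiniteType f]
    [QuasiCompact f] : AlgebraicGeometry.IsNoetherian X :=
  haveI : IsLocallyNoetherian X := LocallyOfFiniteType.isLocallyNoetherian f
  haveI : CompactSpace X := QuasiCompact.compactSpace_of_compactSpace f
  {}

theorem good_comp_proper [AlgebraicGeometry.IsNoetherian S] {Y : Scheme.{u}} (p : Y ⟶ X) (f : X ⟶ S)
    (hp : ∀ H, Cons Y H → Good p H) (hf : ∀ F, Cons X F → Good f F) (H : EtCoh.Ab Y) (hH : Cons Y H) :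
    Good (p ≫ f) H :=
  good_comp p f H fun j => hf _ (hp H hH j)

theorem good_closedImmersion_comp [AlgebraicGeometry.IsNoetherian S] {P : Scheme.{u}} (j : X ⟶ P)
    [IsClosedImmersion j] (g : P ⟶ S) [LocallyOfFiniteType g] [QuasiCompact g]
    (hg : ∀ F, Cons P F → Good g F) (F : EtCoh.Ab X) (hF : Cons X F) : Good (j ≫ g) F := by
  haveI := isNoetherian_of_lft g
  haveI : LocallyOfFinitePresentation j := LocallyOfFinitePresentation.iff_locallyOfFiniteType.2 inferInstance
  exact good_comp_finite j g F (hg _ (good_zero_push (good_finite j F hF)))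

theorem good_projSpace : ∀ (n : ℕ) (S : Scheme.{u}) [AlgebraicGeometry.IsNoetherian S]
    (F : EtCoh.Ab (ProjSpaceOver n S)), Cons (ProjSpaceOver n S) F → Good (ProjSpaceOver.toBase n S) F := by
  intro n
  induction n with
  | zero =>
    intro S _ F hF
    haveI := L18.PS.isIso_toSpec_zero (ULift.{u} ℤ)
    haveI : IsIso (ProjSpaceOver.toBase 0 S) :=
      inferInstanceAs (IsIso (pullback.snd (ProjSpace.toSpec 0 (ULift.{u} ℤ)) (specULiftZIsTerminal.from S)))
    exact good_finite _ F hF
  | succ n ih =>
    intro S _ F hF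
    obtain ⟨φ, hφf, hφs, hφ⟩ := L18.PS.exists_step S n
    haveI := hφf
    haveI := hφs
    haveI : IsProper (ProjSpaceOver.toBase n S) := inferInstance
    haveI : IsProper (ProjSpaceOver.toBase (n + 1) S) := inferInstance
    haveI := isNoetherian_of_lft (ProjSpaceOver.toBase n S)
    haveI := isNoetherian_of_lft (ProjSpaceOver.toBase (n + 1) S)
    haveI : LocallyOfFinitePresentation φ := LocallyOfFinitePresentation.iff_locallyOfFiniteType.2 inferInstance
    let g := pullback.fst (ProjSpaceOver.toBase n S) (ProjSpaceOver.toBase 1 S)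
    haveI : IsProper g := MorphismProperty.pullback_fst (P := @IsProper) _ _ inferInstance
    have hg : ∀ t : ProjSpaceOver n S, topologicalKrullDim (g.fiber t) ≤ 1 := fun t => by
      let b := (ProjSpaceOver n S).fromSpecResidueField t
      have sq := (IsPullback.of_hasPullback g b).flip.flip.paste_horiz
        (IsPullback.of_hasPullback (ProjSpaceOver.toBase n S) (ProjSpaceOver.toBase 1 S)).flip
      have e := (L16.ProjSpace.isPullback_overMap 1 (b ≫ ProjSpaceOver.toBase n S)).isoPullback
      refine (IsHomeomorph.topologicalKrullDim_eq _ ((sq.isoPullback ≪≫ e.symm ≪≫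
        (L16.ProjSpace.isoOver 1 ((ProjSpaceOver n S).residueField t)).symm).hom.homeomorph.isHomeomorph)).trans_le ?_
      rw [L16.ProjSpace.topologicalKrullDim_eq_of_field]
      exact le_of_eq Nat.cast_one
    refine good_of_surjective φ (ProjSpaceOver.toBase (n + 1) S) (fun H hH => good_finite φ H hH) (fun H hH => ?_) F hF
    exact good_congr hφ.symm (good_comp_proper g _ (fun K hK => good_curve g hg K hK) (fun K hK => ih S K hK) H hH)

theorem good_proper_affine {R : Type u} [CommRing R] [IsNoetherianRing R]
    (f : X ⟶ Spec (CommRingCat.of R)) [IsProper f] (F : EtCoh.Ab X) (hF : Cons X F) : Good f F := by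
  obtain ⟨n, Y, π, j, hj, hjf, hπ, hπs⟩ := Groth.Agent.S7409.result f
  haveI := hπ
  haveI := hπs
  haveI := hj
  haveI : IsProper (j ≫ ProjSpaceOver.toBase n _) := hjf ▸ inferInstance
  haveI : IsProper j := IsProper.of_comp j (ProjSpaceOver.toBase n _)
  haveI : IsClosedImmersion j := IsClosedImmersion.of_isPreimmersion j j.isClosedMap.isClosed_range
  haveI := isNoetherian_of_lft f
  let sq := L16.ProjSpace.isPullback_overMap n f
  let k : Y ⟶ ProjSpaceOver n X := sq.lift j π hjf
  haveI : IsClosedImmersion k := by
    haveI : IsSeparated (L16.ProjSpace.overMap n f) :=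
      MorphismProperty.of_isPullback (P := @IsSeparated) sq.flip inferInstance
    haveI : IsClosedImmersion (k ≫ L16.ProjSpace.overMap n f) := by rw [sq.lift_fst]; infer_instance
    exact IsClosedImmersion.of_comp k (L16.ProjSpace.overMap n f)
  refine good_of_surjective π f (fun H hH => ?_) (fun H hH => ?_) F hF
  · exact good_congr (sq.lift_snd _ _ _)
      (good_closedImmersion_comp k (ProjSpaceOver.toBase n X) (good_projSpace n X) H hH)
  · exact good_congr hjf
      (good_closedImmersion_comp j (ProjSpaceOver.toBase n _) (good_projSpace n _) H hH)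

/-- Proper morphisms preserve constructible torsion sheaves. -/
theorem good_proper [AlgebraicGeometry.IsNoetherian S] (f : X ⟶ S) [IsProper f] (F : EtCoh.Ab X)
    (hF : Cons X F) : Good f F := by
  refine good_of_generic f F hF fun T _ _ _ k => ⟨T, 𝟙 T, inferInstance, inferInstance, ⟨genericPoint T, rfl⟩, ?_⟩
  let fT := pullback.snd f (𝟙 T ≫ k)
  haveI : IsProper fT := MorphismProperty.pullback_snd (P := @IsProper) _ _ inferInstance
  haveI : IsNoetherianRing Γ(T, ⊤) := IsLocallyNoetherian.component_noetherian ⟨⊤, isAffineOpen_top T⟩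
  haveI : IsProper (fT ≫ T.isoSpec.hom) := inferInstance
  have h := good_proper_affine (R := Γ(T, ⊤)) (fT ≫ T.isoSpec.hom)
    ((EtCoh.pull (pullback.fst f (𝟙 T ≫ k))).obj F) (cons_pull _ hF)
  haveI : AlgebraicGeometry.IsNoetherian (Spec (CommRingCat.of Γ(T, ⊤))) := inferInstance
  haveI : LocallyOfFinitePresentation T.isoSpec.inv := inferInstance
  exact good_congr (show (fT ≫ T.isoSpec.hom) ≫ T.isoSpec.inv = fT by simp)
    (good_comp _ T.isoSpec.inv _ fun i => good_finite T.isoSpec.inv _ (h i))

end Groth.L23.PFin
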