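import Groth.Agent.L23.PFin.Shriek
import Groth.Agent.L23.RDerProp
import Groth.Agent.L27.RShriek.Bounded
import Groth.Agent.L28.EtTor.Basic
import Groth.Agent.L28.Strata.Serre

/-!
# Constructibility of the derived direct image with proper support
-/

set_option autoImplicit false
set_option linter.style.haveILetI false
set_option linter.unusedSectionVars false
set_option linter.overlappingInstances false
set_option backward.isDefEq.respectTransparency.types false
set_option synthInstance.maxHeartbeats 100000

universe u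

open CategoryTheory CategoryTheory.Limits AlgebraicGeometry Opposite

attribute [local instance] HasDerivedCategory.standard

noncomputable section

namespace Groth.L23.PFin

open Groth.L27

/-- Constructible sheaves are torsion. -/
theorem isTorsion_of_isConstructible {X : Scheme.{u}} {F : EtCoh.Ab X} (hF : EtPBC.IsConstructible F) :
    EtCoh.IsTorsion F :=
  AffineEfface.isTorsion_of_isLTorsion (L := Set.univ) (L28.EtTor.isLTorsion_iff_stalks.2 fun Ω _ _ ξ t => by
    haveI : Finite ((EtCoh.stalk ξ).obj F) := L28.Spz.finite_stalk' hF ξ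
    exact ⟨Nat.card ((EtCoh.stalk ξ).obj F), ⟨Nat.card_pos, fun _ _ _ => trivial⟩, card_nsmul_eq_zero'⟩)

/-- The cohomology of the direct image with proper support of a bounded below object with constructible cohomology
is constructible. -/
theorem isConstructible_Rshriek {X Y : Scheme.{u}} [CompactSpace X] [CompactSpace Y] [QuasiSeparatedSpace Y]
    {f : X ⟶ Y} [LocallyOfFinitePresentation f] (c : DEt.Compactification f)
    [PreservesFiniteLimits (EtShriek.extZero c.j)] [DCoh.HasRpushEt c.Xbar c.fbar] (K : DCoh.DEt X) (a : ℤ)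
    (hb : ∀ n : ℤ, n < a → IsZero (DCoh.HDEt K n)) (hc : ∀ n : ℤ, EtPBC.IsConstructible (DCoh.HDEt K n)) (n : ℤ) :
    EtPBC.IsConstructible (DCoh.HDEt ((DEt.Rshriek c).obj K) n) ∧
      EtCoh.IsTorsion (DCoh.HDEt ((DEt.Rshriek c).obj K) n) := by
  haveI : LocallyOfFinitePresentation (c.j ≫ c.fbar) := by rw [c.fac]; infer_instance
  let G := EtShriek.extZero c.j
  let K' := G.mapDerivedCategory.obj K
  haveI : K'.IsGE a := (DerivedCategory.isGE_iff K' a).2 fun m hm => by
    obtain ⟨e⟩ := RShriek.nonempty_homology_mapDerived G K m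
    exact (G.map_isZero (hb m hm)).of_iso e
  let α : (EtCoh.push c.fbar).mapHomotopyCategory (ComplexShape.up ℤ) ⋙ DerivedCategory.Qh ⟶
      DerivedCategory.Qh ⋙ DCoh.RpushEt c.Xbar c.fbar :=
    (DCoh.pushEtKh c.Xbar c.fbar).totalRightDerivedUnit DerivedCategory.Qh _
  obtain ⟨k, hk⟩ : ∃ k : ℕ, n < a + k := ⟨(n - a).toNat + 1, by omega⟩
  have hH : EtPBC.IsConstructible (DCoh.HDEt ((DEt.Rshriek c).obj K) n) := by
    refine RDerProp.prop_H α (fun F => EtPBC.IsConstructible F) (fun e => L28.Transfer.isConstructible_of_iso e)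
      (fun X h => (cons_of_isZero h).1) (fun φ h h' => (L28.Strata.isConstructible_kernel_cokernel φ h h').1)
      (fun φ h h' => (L28.Strata.isConstructible_kernel_cokernel φ h h').2)
      (fun hS h1 h3 => L28.Strata.isConstructible_extension hS h1 h3) k a K' inferInstance (fun i p => ?_) n hk
    obtain ⟨e⟩ := RShriek.nonempty_homology_mapDerived G K i
    refine L28.Transfer.isConstructible_of_iso ((EtCoh.Rpush c.fbar p).mapIso e.symm) ?_
    exact (isConstructible_Rpush_extZero c.j c.fbar _ (hc i) (isTorsion_of_isConstructible (hc i)) p).1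
  exact ⟨hH, isTorsion_of_isConstructible hH⟩

/-- The case of a single sheaf. -/
theorem isConstructible_Rshriek_single {X Y : Scheme.{u}} [CompactSpace X] [CompactSpace Y] [QuasiSeparatedSpace Y]
    {f : X ⟶ Y} [LocallyOfFinitePresentation f] (c : DEt.Compactification f)
    [PreservesFiniteLimits (EtShriek.extZero c.j)] [DCoh.HasRpushEt c.Xbar c.fbar] (F : EtCoh.Ab X)
    (hF : EtPBC.IsConstructible F) (n : ℤ) :
    EtPBC.IsConstructible
      (DCoh.HDEt ((DEt.Rshriek c).obj ((DerivedCategory.singleFunctor (EtCoh.Ab X) 0).obj F)) n) := by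
  refine (isConstructible_Rshriek c _ 0 (fun m hm => DerivedCategory.isZero_of_isGE _ 0 m hm) (fun m => ?_) n).1
  rcases eq_or_ne m 0 with rfl | hm
  · exact L28.Transfer.isConstructible_of_iso
      ((DerivedCategory.singleFunctorCompHomologyFunctorIso _ 0).app F).symm hF
  · rcases lt_or_gt_of_ne hm with h | h
    · exact (cons_of_isZero (DerivedCategory.isZero_of_isGE _ 0 m h)).1
    · exact (cons_of_isZero (DerivedCategory.isZero_of_isLE _ 0 m h)).1

end Groth.L23.PFin
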