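import Groth.Agent.L00.RDerLES
import Mathlib.CategoryTheory.Abelian.SerreClass.Basic

/-!
# Serre classes and long exact sequences of right derived functors
-/

set_option autoImplicit false
set_option linter.style.haveILetI false
set_option linter.unusedSectionVars false
set_option backward.isDefEq.respectTransparency false

universe v u v' u'

open CategoryTheory CategoryTheory.Limits CategoryTheory.Pretriangulated

namespace Groth.L23.PFin

open Groth.L00.RDerLES Groth.L17.GrothSS

variable {C : Type u} [Category.{v} C] [Abelian C] [EnoughInjectives C] [HasInjectiveResolutions C]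
  {D : Type u'} [Category.{v'} D] [Abelian D] (S : C ⥤ D) [S.Additive]
  (P : ObjectProperty D) [P.IsSerreClass] {T : ShortComplex C} (hT : T.ShortExact)

include hT

theorem prop_rder_mid (n : ℕ) (h₁ : P ((S.rightDerived n).obj T.X₁)) (h₃ : P ((S.rightDerived n).obj T.X₃)) :
    P ((S.rightDerived n).obj T.X₂) := by
  letI := HasDerivedCategory.standard C
  haveI := Groth.L00.RDerLES.additive S n
  exact P.prop_X₂_of_exact (exact₂ S hT n) h₁ h₃

theorem prop_rder_left (n : ℕ) (h₃ : P ((S.rightDerived n).obj T.X₃))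
    (h₂ : P ((S.rightDerived (n + 1)).obj T.X₂)) : P ((S.rightDerived (n + 1)).obj T.X₁) := by
  letI := HasDerivedCategory.standard C
  obtain ⟨δ, hd⟩ := exists_plusTriangle hT
  exact P.prop_of_iso (hhSingleZeroIso S T.X₁ (n + 1))
    (P.prop_X₂_of_exact ((HomotopyCategory.homologyFunctor D (.up ℤ) 0).homologySequence_exact₁ _
      ((RK S).map_distinguished _ hd) (n : ℤ) ((n + 1 : ℕ) : ℤ) (by omega))
      (P.prop_of_iso (hhSingleZeroIso S T.X₃ n).symm h₃)
      (P.prop_of_iso (hhSingleZeroIso S T.X₂ (n + 1)).symm h₂))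

theorem prop_rder_right (n : ℕ) (h₂ : P ((S.rightDerived n).obj T.X₂))
    (h₁ : P ((S.rightDerived (n + 1)).obj T.X₁)) : P ((S.rightDerived n).obj T.X₃) := by
  letI := HasDerivedCategory.standard C
  obtain ⟨δ, hd⟩ := exists_plusTriangle hT
  exact P.prop_of_iso (hhSingleZeroIso S T.X₃ n)
    (P.prop_X₂_of_exact ((HomotopyCategory.homologyFunctor D (.up ℤ) 0).homologySequence_exact₃ _
      ((RK S).map_distinguished _ hd) (n : ℤ) ((n + 1 : ℕ) : ℤ) (by omega))
      (P.prop_of_iso (hhSingleZeroIso S T.X₂ n).symm h₂)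
      (P.prop_of_iso (hhSingleZeroIso S T.X₁ (n + 1)).symm h₁))

theorem prop_rder_left_zero (h₂ : P ((S.rightDerived 0).obj T.X₂)) : P ((S.rightDerived 0).obj T.X₁) := by
  letI := HasDerivedCategory.standard C
  haveI := mono_zero S hT
  exact P.prop_of_mono ((S.rightDerived 0).map T.f) h₂

omit hT

/-- Transfer along a morphism with small kernel and cokernel, in the direction of the source. -/
theorem prop_rder_of_ker_coker {F G : C} (φ : F ⟶ G)
    (hK : ∀ q, P ((S.rightDerived q).obj (kernel φ))) (hC : ∀ q, P ((S.rightDerived q).obj (cokernel φ)))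
    (hG : ∀ q, P ((S.rightDerived q).obj G)) (q : ℕ) : P ((S.rightDerived q).obj F) := by
  let E₁ : ShortComplex C := ShortComplex.mk (kernel.ι φ) (Abelian.factorThruImage φ)
    (by rw [← cancel_mono (Abelian.image.ι φ), Category.assoc, Abelian.image.fac, kernel.condition, zero_comp])
  haveI : Mono E₁.f := inferInstanceAs (Mono (kernel.ι φ))
  haveI : Epi E₁.g := inferInstanceAs (Epi (Abelian.factorThruImage φ))
  have hE₁ : E₁.ShortExact :=
    { exact := ShortComplex.exact_of_f_is_kernel _ (KernelFork.IsLimit.ofι' _ E₁.zero fun {A} a ha =>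
        ⟨kernel.lift φ a (by rw [← Abelian.image.fac φ, ← Category.assoc, ha, zero_comp]), kernel.lift_ι _ _ _⟩) }
  let E₂ : ShortComplex C := ShortComplex.mk (Abelian.image.ι φ) (cokernel.π φ) (kernel.condition _)
  have hE₂ : E₂.ShortExact :=
    { exact := ShortComplex.exact_of_f_is_kernel _ (kernelIsKernel _)
      mono_f := inferInstanceAs (Mono (Abelian.image.ι φ))
      epi_g := inferInstanceAs (Epi (cokernel.π φ)) }
  refine prop_rder_mid S P hE₁ q (hK q) ?_
  rcases q with _ | q
  · exact prop_rder_left_zero S P hE₂ (hG 0)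
  · exact prop_rder_left S P hE₂ q (hC q) (hG (q + 1))

/-- Transfer along a morphism with small kernel and cokernel, in the direction of the target. -/
theorem prop_rder_of_ker_coker' {F G : C} (φ : F ⟶ G)
    (hK : ∀ q, P ((S.rightDerived q).obj (kernel φ))) (hC : ∀ q, P ((S.rightDerived q).obj (cokernel φ)))
    (hF : ∀ q, P ((S.rightDerived q).obj F)) (q : ℕ) : P ((S.rightDerived q).obj G) := by
  let E₁ : ShortComplex C := ShortComplex.mk (kernel.ι φ) (Abelian.factorThruImage φ)
    (by rw [← cancel_mono (Abelian.image.ι φ), Category.assoc, Abelian.image.fac, kernel.condition, zero_comp])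
  haveI : Mono E₁.f := inferInstanceAs (Mono (kernel.ι φ))
  haveI : Epi E₁.g := inferInstanceAs (Epi (Abelian.factorThruImage φ))
  have hE₁ : E₁.ShortExact :=
    { exact := ShortComplex.exact_of_f_is_kernel _ (KernelFork.IsLimit.ofι' _ E₁.zero fun {A} a ha =>
        ⟨kernel.lift φ a (by rw [← Abelian.image.fac φ, ← Category.assoc, ha, zero_comp]), kernel.lift_ι _ _ _⟩) }
  let E₂ : ShortComplex C := ShortComplex.mk (Abelian.image.ι φ) (cokernel.π φ) (kernel.condition _)
  have hE₂ : E₂.ShortExact :=
    { exact := ShortComplex.exact_of_f_is_kernel _ (kernelIsKernel _)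
      mono_f := inferInstanceAs (Mono (Abelian.image.ι φ))
      epi_g := inferInstanceAs (Epi (cokernel.π φ)) }
  exact prop_rder_mid S P hE₂ q (prop_rder_right S P hE₁ q (hF q) (hK (q + 1))) (hC q)

end Groth.L23.PFin
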