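import Groth.Agent.L23.PFin.General
import Groth.Agent.L23.PFin.Acyclic
import Groth.Agent.L23.SchemeFacts
import Groth.Agent.L28.ExtShriek.Constr
import Groth.Agent.L28.ExtShriek.BaseChange
import Groth.Agent.L27.ExtZero.Unique
import Groth.Agent.L27.ExtZero.ShriekProper
import Groth.Agent.L27.PBC.StalkH
import Groth.Agent.L27.PBC.ProperCd
import Groth.Agent.L27.Colim.RpushTorsion
import Groth.Agent.S2079

/-!
# Constructibility of direct images with proper support
-/

set_option autoImplicit false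
set_option linter.style.haveILetI false
set_option linter.unusedSectionVars false
set_option linter.overlappingInstances false
set_option backward.isDefEq.respectTransparency false
set_option backward.isDefEq.respectTransparency.types false

universe u

open CategoryTheory CategoryTheory.Limits AlgebraicGeometry Opposite

noncomputable section

namespace Groth.L23.PFin

open Groth.L27

/-- An open subscheme of a closed subscheme is the trace of a quasi-compact open subscheme. -/
theorem exists_qc_open_preimage {B X' : Scheme.{u}} (ι : B ⟶ X') [IsClosedImmersion ι] [CompactSpace X']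
    [QuasiSeparatedSpace X'] (O : B.Opens) (hO : IsCompact (O : Set B)) :
    ∃ U : X'.Opens, IsCompact (U : Set X') ∧ ι ⁻¹ᵁ U = O := by
  obtain ⟨V, hV, hVO⟩ := ι.isClosedEmbedding.isInducing.isOpen_iff.1 O.2
  obtain ⟨t, ht⟩ := (hO.image ι.continuous).elim_finite_subcover
    (fun W : {W : X'.Opens // IsAffineOpen W ∧ (W : Set X') ⊆ V} => (W.1 : Set X')) (fun W => W.1.2) (by
      rintro _ ⟨b, hb, rfl⟩
      have hb' : ι b ∈ V := by rw [← Set.mem_preimage, hVO]; exact hb
      obtain ⟨W, hW, hbW, hWV⟩ := exists_isAffineOpen_mem_and_subset (x := ι b) (U := ⟨V, hV⟩) hb'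
      exact Set.mem_iUnion.2 ⟨⟨W, hW, hWV⟩, hbW⟩)
  refine ⟨⟨⋃ W ∈ t, (W.1 : Set X'), isOpen_biUnion fun W _ => W.1.2⟩,
    t.finite_toSet.isCompact_biUnion fun W _ => W.2.1.isCompact,
    TopologicalSpace.Opens.ext (Set.Subset.antisymm (fun b hb => ?_) fun b hb => ht ⟨b, hb, rfl⟩)⟩
  obtain ⟨W, -, hbW⟩ := Set.mem_iUnion₂.1 hb
  have := W.2.2 hbW
  rw [← Set.mem_preimage, hVO] at this
  exact this

/-- The direct image along a closed immersion of an extension by zero is an extension by zero. -/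
theorem nonempty_push_extZero_iso {X B X' : Scheme.{u}} {W : X'.Opens} {j : X ⟶ B} [IsOpenImmersion j]
    {ι : B ⟶ X'} [IsClosedImmersion ι] {k : X ⟶ W.toScheme} (sq : IsPullback j k ι W.ι) (F : EtCoh.Ab X)
    (hT : EtCoh.IsTorsion ((EtShriek.extZero j).obj F)) :
    Nonempty ((EtCoh.push ι).obj ((EtShriek.extZero j).obj F) ≅
      (EtShriek.extZero W.ι).obj ((EtCoh.push k).obj F)) := by
  let H := (EtShriek.extZero j).obj F
  haveI := (ExtZero.isIso_counit_of_mono j).2
  refine ExtZero.nonempty_iso_extZero W.ι _ _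
    ⟨(Groth.L28.ExtShriek.pushRestrIso sq.flip).app H ≪≫
      (EtCoh.push k).mapIso (asIso ((EtShriek.extZeroAdj j).unit.app F)).symm⟩ fun Ω _ _ ξ hξ => ?_
  obtain ⟨e⟩ := PBC.nonempty_stalk_iso Ω ι ξ H hT 0
  refine IsZero.of_iso ?_ (((EtCoh.stalk ξ).mapIso ((EtCoh.push ι).rightDerivedZeroIsoSelf.app H)).symm ≪≫ e)
  have hz : IsZero ((EtCoh.pull (pullback.fst ι ξ)).obj H) := by
    refine EtSite.isZero_of_stalks _ fun p => ?_
    obtain ⟨K, _, _, η, hη⟩ := EtSite.exists_geometric_point p
    refine ⟨K, inferInstance, inferInstance, η, hη, IsZero.of_iso ?_ ((EtSite.stalkPullIso _ η).app H)⟩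
    refine ExtZero.isZero_stalk_extZero_of_outside j _ ?_ F
    rintro - ⟨z, rfl⟩ ⟨x, hx⟩
    refine hξ ⟨pullback.snd ι ξ (η z), rfl⟩ ⟨k x, ?_⟩
    rw [← Scheme.Hom.comp_apply, ← sq.w, Scheme.Hom.comp_apply, hx, Scheme.Hom.comp_apply, ← Scheme.Hom.comp_apply,
      pullback.condition, Scheme.Hom.comp_apply]
  exact (EtCoh.HF _ 0).map_isZero hz

/-- Direct images with proper support of constructible torsion sheaves. -/
theorem isConstructible_Rpush_extZero {X S B : Scheme.{u}} [CompactSpace X] [CompactSpace S] [QuasiSeparatedSpace S]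
    (j : X ⟶ B) [IsOpenImmersion j] (fbar : B ⟶ S) [IsProper fbar] [LocallyOfFinitePresentation (j ≫ fbar)]
    (F : EtCoh.Ab X) (hF : EtPBC.IsConstructible F) (ht : EtCoh.IsTorsion F) (q : ℕ) :
    EtPBC.IsConstructible ((EtCoh.Rpush fbar q).obj ((EtShriek.extZero j).obj F)) ∧
      EtCoh.IsTorsion ((EtCoh.Rpush fbar q).obj ((EtShriek.extZero j).obj F)) := by
  let H := (EtShriek.extZero j).obj F
  have hT : EtCoh.IsTorsion H :=
    Colim.isTorsion_of_iso ((ExtZero.shriekIso j).app F).symm (PBC.isTorsion_lowerShriek j ht)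
  refine ⟨?_, Colim.isTorsion_Rpush fbar hT q⟩
  obtain ⟨I, _, _, D, c, _, e, hD⟩ := Groth.Agent.S2079.result fbar
  obtain ⟨i⟩ := IsCofiltered.nonempty (C := I)
  obtain ⟨-, h2⟩ := hD
  obtain ⟨hι, hP, hLFP⟩ := h2 i
  let f' := (D.obj i).hom
  haveI : IsProper f' := hP
  haveI : LocallyOfFinitePresentation f' := hLFP
  let ι : B ⟶ (D.obj i).left := e.inv.left ≫ (c.π.app i).left
  haveI : IsClosedImmersion (c.π.app i).left := hι
  haveI : IsIso e.inv.left := inferInstanceAs (IsIso ((Over.forget S).map e.inv))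
  haveI : IsClosedImmersion ι := inferInstance
  have hιf : ι ≫ f' = fbar := by
    rw [Category.assoc]
    exact (congrArg (e.inv.left ≫ ·) (Over.w (c.π.app i))).trans (Over.w e.inv)
  haveI : CompactSpace (D.obj i).left := QuasiCompact.compactSpace_of_compactSpace f'
  haveI : QuasiSeparatedSpace (D.obj i).left := quasiSeparatedSpace_of_quasiSeparated f'
  obtain ⟨W, hW, hWj⟩ := exists_qc_open_preimage ι j.opensRange (isCompact_range j.continuous)
  have hr : Set.range (j ≫ ι) ⊆ Set.range W.ι := by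
    rintro _ ⟨x, rfl⟩
    rw [Scheme.Opens.range_ι, Scheme.Hom.comp_apply]
    exact (hWj.symm ▸ ⟨x, rfl⟩ : j x ∈ ι ⁻¹ᵁ W)
  let k : X ⟶ W.toScheme := IsOpenImmersion.lift W.ι (j ≫ ι) hr
  have hk : k ≫ W.ι = j ≫ ι := IsOpenImmersion.lift_fac _ _ _
  have sq : IsPullback j k ι W.ι :=
    (IsOpenImmersion.isPullback k j W.ι ι hk.symm (by rw [Scheme.Opens.opensRange_ι]; exact hWj)).flip
  haveI : IsClosedImmersion k := MorphismProperty.of_isPullback (P := @IsClosedImmersion) sq ‹IsClosedImmersion ι›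
  haveI : LocallyOfFinitePresentation k := by
    haveI : LocallyOfFiniteType (W.ι ≫ f') := inferInstance
    refine lfp_of_comp_lft k (W.ι ≫ f') ?_
    rw [← Category.assoc, hk, Category.assoc, hιf]
    infer_instance
  haveI : CompactSpace W.toScheme := isCompact_iff_compactSpace.1 hW
  haveI : QuasiCompact W.ι := quasiCompact_of_compactSpace W.ι
  have hK : EtPBC.IsConstructible ((EtCoh.push k).obj F) :=
    Groth.L28.Transfer.isConstructible_of_iso ((EtCoh.push k).rightDerivedZeroIsoSelf.app F)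
      (isConstructible_Rpush k F hF ht 0)
  obtain ⟨e'⟩ := nonempty_push_extZero_iso sq F hT
  have hI : EtPBC.IsConstructible ((EtCoh.push ι).obj H) :=
    Groth.L28.Transfer.isConstructible_of_iso e'.symm (Groth.L28.ExtShriek.isConstructible_extZero' W.ι hK)
  obtain ⟨eR⟩ := nonempty_Rpush_comp_iso ι f' H (fun m => isZero_Rpush_finite ι H m) q
  rw [← hιf]
  exact Groth.L28.Transfer.isConstructible_of_iso eR.symm
    (isConstructible_Rpush f' _ hI (Colim.isTorsion_push ι hT) q)

end Groth.L23.PFin
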