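import Groth.Agent.L23.PFin.CardLe
import Groth.Agent.L27.PBC.Henselian
import Groth.Agent.L27.PBC.GeomPoint
import Groth.Agent.L27.PBC.ProperCd
import Groth.Agent.L27.SmoothLA.Main
import Groth.Agent.L27.Acyclic0.Smooth
import Groth.Agent.L28.ExtShriek.ConstIso
import Groth.Agent.S0636
import Groth.Agent.S0640
import Groth.Agent.S3096
import Groth.Agent.S3516

/-!
# Higher direct images of constant sheaves along proper smooth curves
-/

set_option autoImplicit false
set_option linter.style.haveILetI false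
set_option linter.unusedSectionVars false
set_option backward.isDefEq.respectTransparency false
set_option backward.isDefEq.respectTransparency.types false

universe u

open CategoryTheory CategoryTheory.Limits AlgebraicGeometry Opposite IsLocalRing

noncomputable section

namespace Groth.L23.PFin

open Groth.L27.PBC (clA)

theorem isLocallyConstant_const (X : Scheme.{u}) (M : Type) [AddCommGroup M] [Finite M] :
    EtRest.IsLocallyConstant (EtCoh.const X M) := by
  obtain ⟨ι, U, hU, h⟩ := Groth.L28.ExtShriek.isFLC_const X M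
  exact ⟨ι, U, hU, fun i => by
    obtain ⟨M', _, _, e⟩ := h i
    exact ⟨ULift.{u + 1} M', inferInstance, e⟩⟩

theorem card_H_of_iso {U P : Scheme.{u}} (e : U ≅ P) (p q : ℕ) :
    Nat.card (EtCoh.H U (EtCoh.const U (ZMod p)) q) = Nat.card (EtCoh.H P (EtCoh.const P (ZMod p)) q) := by
  haveI : UniversallyInjective e.hom := inferInstance
  obtain ⟨ε⟩ := Groth.L27.FinBC.nonempty_constEquiv e.hom p q
  exact (Nat.card_congr ε.toEquiv).symm

/-- Cohomology of proper curves over separably closed fields. -/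
theorem finite_H_const_curve {k : Type u} [Field k] [IsSepClosed k] {X : Scheme.{u}}
    (f : X ⟶ Spec (CommRingCat.of k)) [IsProper f] (hd : topologicalKrullDim X ≤ 1)
    (M : Type) [AddCommGroup M] [Finite M] (q : ℕ) : Finite (EtCoh.H X (EtCoh.const X M) q) := by
  let K := AlgebraicClosure k
  let σ := Spec.map (CommRingCat.ofHom (algebraMap k K))
  let a := pullback.fst f σ
  haveI := Groth.L27.EtSite.preservesFiniteLimits_pull a
  have hb := Groth.Agent.S0640.result k X f hd (EtCoh.const X M) (Groth.L27.PBC.isTorsion_const X M) K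
    (algebraMap k K) q
  have hd' : topologicalKrullDim ↥(pullback f σ) ≤ 1 :=
    (Groth.L21.CurvFib.topologicalKrullDim_eq_of_isPullback k K f σ (pullback.snd f σ) a
      (IsPullback.of_hasPullback f σ)).trans_le hd
  haveI : Finite ↑((EtCoh.HF (pullback f σ) q).obj (EtCoh.const (pullback f σ) M)) :=
    Groth.Agent.S0636.result K (pullback f σ) (pullback.snd f σ) hd' (EtCoh.const _ M)
    (Groth.L21.CurveFin.isConstructible_const _ M) (Groth.L27.PBC.isTorsion_const _ M) q
  exact Finite.of_equiv _ ((AddEquiv.ofBijective _ hb).trans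
    ((EtCoh.HF _ q).mapIso (EtCore.pullConst a M)).addCommGroupIsoToAddEquiv).symm.toEquiv

variable {N T : Scheme.{u}} (g : N ⟶ T) [IsProper g] (p : ℕ) [Fact p.Prime]

/-- Stalks are the cohomology of geometric fibres. -/
theorem nonempty_stalk_const (q : ℕ) {Ω : Type u} [Field Ω] [IsSepClosed Ω]
    (ξ : Spec (CommRingCat.of Ω) ⟶ T) :
    Nonempty ((EtCoh.stalk ξ).obj ((EtCoh.Rpush g q).obj (EtCoh.const N (ZMod p))) ≅
      AddCommGrpCat.of (EtCoh.H (pullback g ξ) (EtCoh.const _ (ZMod p)) q)) := by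
  obtain ⟨e⟩ := Groth.L27.PBC.nonempty_stalk_iso Ω g ξ (EtCoh.const N (ZMod p))
    (Groth.L27.PBC.isTorsion_const N (ZMod p)) q
  exact ⟨e ≪≫ (EtCoh.HF _ q).mapIso (EtCore.pullConst (pullback.fst g ξ) (ZMod p))⟩

theorem card_stalk_const (q : ℕ) {Ω : Type u} [Field Ω] [IsSepClosed Ω] (ξ : Spec (CommRingCat.of Ω) ⟶ T) :
    Nat.card ((EtCoh.stalk ξ).obj ((EtCoh.Rpush g q).obj (EtCoh.const N (ZMod p)))) =
      Nat.card (EtCoh.H (pullback g ξ) (EtCoh.const _ (ZMod p)) q) := by
  obtain ⟨e⟩ := nonempty_stalk_const g p q ξ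
  exact Nat.card_congr e.addCommGroupIsoToAddEquiv.toEquiv

theorem finite_stalk_const (hdim : ∀ t : T, topologicalKrullDim (g.fiber t) ≤ 1) (q : ℕ) {Ω : Type u} [Field Ω]
    [IsSepClosed Ω] (ξ : Spec (CommRingCat.of Ω) ⟶ T) :
    Finite ((EtCoh.stalk ξ).obj ((EtCoh.Rpush g q).obj (EtCoh.const N (ZMod p)))) := by
  obtain ⟨e⟩ := nonempty_stalk_const g p q ξ
  haveI := finite_H_const_curve (pullback.snd g ξ) (Groth.L27.PBC.topologicalKrullDim_pullback_le g 1 hdim ξ)
    (ZMod p) q
  exact Finite.of_equiv _ e.symm.addCommGroupIsoToAddEquiv.toEquiv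

theorem isLTorsion_const_self (X : Scheme.{u}) : EtAcyc.IsLTorsion {p} (EtCoh.const X (ZMod p)) :=
  fun U s x => ⟨U, 𝟙 U, p, ⟨x, rfl⟩,
    ⟨(Fact.out : p.Prime).pos, fun r hr hd => (Nat.prime_dvd_prime_iff_eq hr Fact.out).1 hd⟩, by
      have h := Groth.L27.ProperH1.killedBy_const (Y := X) (ZMod p) U s
      simp only [Nat.card_zmod] at h
      simpa using h⟩

/-- Specialisation over a strictly henselian base. -/
theorem card_closed_le (R : Type u) [CommRing R] [HenselianLocalRing R] [IsSepClosed (ResidueField R)]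
    {X : Scheme.{u}} (f : X ⟶ Spec (CommRingCat.of R)) [IsProper f] (n q : ℕ) (hq : q ≤ n + 1)
    (hf : EtAcyc.IsLocAcyclicN f {p} n) (y : Spec (CommRingCat.of R)) (Ω : Type u) [Field Ω] [IsSepClosed Ω]
    [Algebra ((Spec (CommRingCat.of R)).residueField y) Ω]
    [Algebra.IsAlgebraic ((Spec (CommRingCat.of R)).residueField y) Ω]
    [Finite (EtCoh.H (pullback f (EtAcyc.geomPt (Spec (CommRingCat.of R)) y Ω)) (EtCoh.const _ (ZMod p)) q)] :
    Nat.card (EtCoh.H (pullback f (clA R)) (EtCoh.const _ (ZMod p)) q) ≤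
      Nat.card (EtCoh.H (pullback f (EtAcyc.geomPt (Spec (CommRingCat.of R)) y Ω)) (EtCoh.const _ (ZMod p)) q) := by
  let a := pullback.fst f (clA R)
  let b := pullback.fst f (EtAcyc.geomPt (Spec (CommRingCat.of R)) y Ω)
  haveI := Groth.L27.EtSite.preservesFiniteLimits_pull a
  haveI := Groth.L27.EtSite.preservesFiniteLimits_pull b
  have hp : p.Prime := Fact.out
  have h := Groth.Agent.S3516.result R ⟨inferInstance, inferInstance⟩ f {p} n hf (EtCoh.const X (ZMod p))
    (isLTorsion_const_self p X) (isLocallyConstant_const X (ZMod p)) y Ω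
  have hinj : Function.Injective (EtCore.Hpull b (EtCoh.const X (ZMod p)) q) := by
    rcases Nat.lt_or_eq_of_le hq with h' | rfl
    · exact (h.1 q (Nat.lt_succ_iff.1 h')).1
    · exact h.2
  have ha := Groth.L27.PBC.bijective_closedFibre f q (EtCoh.const X (ZMod p))
    (Groth.L27.PBC.isTorsion_const X (ZMod p))
  refine (Nat.card_congr ((AddEquiv.ofBijective _ ha).trans
      ((EtCoh.HF _ q).mapIso (EtCore.pullConst a (ZMod p))).addCommGroupIsoToAddEquiv).toEquiv).symm.trans_le ?_
  exact Nat.card_le_card_of_injective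
    (((EtCoh.HF _ q).mapIso (EtCore.pullConst b (ZMod p))).addCommGroupIsoToAddEquiv ∘
      EtCore.Hpull b (EtCoh.const X (ZMod p)) q)
    ((AddEquiv.injective _).comp hinj)

theorem isLocAcyclicN_zero_of_smooth {X Y : Scheme.{u}} (f : X ⟶ Y) [Smooth f] :
    EtAcyc.IsLocAcyclicN f {p} 0 := by
  refine Groth.L27.XV.isLocAcyclicN_of_fibres f {p} ⟨p, rfl, Fact.out⟩ 0 ?_
  intro x RY RX _ _ _ _ _ _ _ _ _ _ _ _ hc y Ω _ _ _ _
  let K := AlgebraicClosure Ω
  let h := Spec.map (CommRingCat.ofHom (algebraMap RY RX))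
  let t := EtAcyc.geomPt (Spec (CommRingCat.of RY)) y Ω
  let σ := Spec.map (CommRingCat.ofHom (algebraMap Ω K))
  have hcK := Groth.L27.Acyclic0.shConnected_of_smooth f x RY RX (algebraMap RY RX) hc K (σ ≫ t)
  haveI : ConnectedSpace ↥(pullback h (σ ≫ t)) := hcK
  let ρ : pullback h (σ ≫ t) ⟶ pullback h t :=
    pullback.lift (pullback.fst _ _) (pullback.snd _ _ ≫ σ) (by rw [Category.assoc, pullback.condition])
  haveI : Surjective σ := ⟨fun z => ⟨default, Subsingleton.elim (α := Spec (CommRingCat.of Ω)) _ _⟩⟩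
  have sq : IsPullback ρ (pullback.snd h (σ ≫ t)) (pullback.snd h t) σ :=
    IsPullback.of_right (by rw [pullback.lift_fst]; exact IsPullback.of_hasPullback h (σ ≫ t))
      (pullback.lift_snd _ _ _) (IsPullback.of_hasPullback h t)
  haveI : Surjective ρ := MorphismProperty.of_isPullback (P := @Surjective) sq.flip inferInstance
  haveI : ConnectedSpace ↥(pullback h t) := ρ.surjective.connectedSpace ρ.continuous
  exact ⟨inferInstance, inferInstance, fun ℓ _ _ q h1 h0 => absurd (le_trans h1 h0) (by omega)⟩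

variable [AlgebraicGeometry.IsNoetherian T] [IsIntegral T] [Smooth g]

/-- Stalks at points of `W` are at most as large as the generic one. -/
theorem card_stalk_le (hdim : ∀ t : T, topologicalKrullDim (g.fiber t) ≤ 1) (n q : ℕ) (hq : q ≤ n + 1)
    (t : T) (hn : n = 0 ∨ (p : T.residueField t) ≠ 0) {Ω : Type u} [Field Ω] [IsSepClosed Ω]
    (ξ : Spec (CommRingCat.of Ω) ⟶ T) (hξ : ξ default = t) {Ω' : Type u} [Field Ω'] [IsSepClosed Ω']
    (ξ' : Spec (CommRingCat.of Ω') ⟶ T) (hξ' : ξ' default = genericPoint T) :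
    Nat.card ((EtCoh.stalk ξ).obj ((EtCoh.Rpush g q).obj (EtCoh.const N (ZMod p)))) ≤
      Nat.card ((EtCoh.stalk ξ').obj ((EtCoh.Rpush g q).obj (EtCoh.const N (ZMod p)))) := by
  obtain ⟨R, _, _, _, _, hR⟩ := Groth.L05.Henselization.exists_isStrictHenselization (T.presheaf.stalk t)
  haveI := hR
  obtain ⟨_, _⟩ := Groth.L27.StalkBC.henselian_strict t R
  let G : EtCoh.Ab T := (EtCoh.Rpush g q).obj (EtCoh.const N (ZMod p))
  let a := Hens2.specOf T t R
  let f := pullback.snd g a
  haveI : Smooth f := MorphismProperty.pullback_snd (P := @Smooth) _ _ inferInstance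
  haveI : Module.Flat (T.presheaf.stalk t) R := Groth.L05.Henselization.flat_of_isStrictHenselization _ R
  haveI : Module.FaithfullyFlat (T.presheaf.stalk t) R := Module.FaithfullyFlat.of_flat_of_isLocalHom
  obtain ⟨w, hw⟩ : ∃ w, T.fromSpecStalk t w = genericPoint T := by
    have : genericPoint T ∈ Set.range (T.fromSpecStalk t) := by
      rw [Scheme.range_fromSpecStalk]
      exact (genericPoint_spec T).specializes (Set.mem_univ t)
    exact this
  obtain ⟨y, hy⟩ := PrimeSpectrum.comap_surjective_of_faithfullyFlat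
    (A := T.presheaf.stalk t) (B := R) w
  have hay : a y = genericPoint T := by
    rw [← hw, ← hy]
    exact Scheme.Hom.comp_apply _ _ _
  let y' : Spec (CommRingCat.of R) := y
  let K := AlgebraicClosure ((Spec (CommRingCat.of R)).residueField y')
  haveI : IsSepClosed K := inferInstance
  let η := EtAcyc.geomPt (Spec (CommRingCat.of R)) y' K
  have hη : (η ≫ a) default = genericPoint T := by
    rw [Scheme.Hom.comp_apply, ← hay]
    refine congrArg a ?_
    exact (Scheme.Hom.comp_apply _ _ _).trans (Scheme.fromSpecResidueField_apply _ _)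
  have hξ₀ : Hens2.geomPt T t R default = t := Groth.L27.PBC.geomPt_default T t R
  have e1 : Nat.card ((EtCoh.stalk ξ).obj G) = Nat.card (EtCoh.H (pullback f (clA R)) (EtCoh.const _ (ZMod p)) q) :=
    (Groth.L28.Spz.card_eq G ξ (Hens2.geomPt T t R) (hξ.trans hξ₀.symm)).symm.trans
      ((card_stalk_const g p q (Hens2.geomPt T t R)).trans
        (card_H_of_iso (pullbackLeftPullbackSndIso g a (clA R)).symm p q))
  have e2 : Nat.card ((EtCoh.stalk ξ').obj G) = Nat.card (EtCoh.H (pullback f η) (EtCoh.const _ (ZMod p)) q) :=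
    (Groth.L28.Spz.card_eq G ξ' (η ≫ a) (hξ'.trans hη.symm)).symm.trans
      ((card_stalk_const g p q (η ≫ a)).trans (card_H_of_iso (pullbackLeftPullbackSndIso g a η).symm p q))
  haveI : Finite (EtCoh.H (pullback f η) (EtCoh.const _ (ZMod p)) q) := by
    haveI := finite_stalk_const g p hdim q ξ'
    refine Nat.finite_of_card_ne_zero ?_
    rw [← e2]
    exact Nat.card_pos.ne'
  rw [e1, e2]
  refine card_closed_le p R f n q hq ?_ y' K
  rcases hn with rfl | hp
  · exact isLocAcyclicN_zero_of_smooth p f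
  · refine Groth.L27.SmoothLA.isLocAcyclicN_smooth f {p} (fun ℓ hℓ _ x h => ?_) n
    obtain rfl : ℓ = p := hℓ
    have h1 : IsUnit (ℓ : T.presheaf.stalk t) := by
      refine (residue_ne_zero_iff_isUnit _).1 ?_
      rw [map_natCast]
      exact hp
    have h2 : IsUnit (ℓ : R) := by simpa using h1.map (algebraMap (T.presheaf.stalk t) R)
    have h3 := ((h2.map (Groth.L27.SmoothLA.evalPt R (f x))).map (f.residueFieldMap x).hom).ne_zero
    rw [map_natCast, map_natCast] at h3
    exact h3 h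

theorem isFLC_pull_of_le {G : EtCoh.Ab T} {U V : T.Opens} (h : U ≤ V)
    (hV : EtCoh.IsFiniteLocallyConstant ((EtCoh.pull V.ι).obj G)) :
    EtCoh.IsFiniteLocallyConstant ((EtCoh.pull U.ι).obj G) := by
  rw [← T.homOfLE_ι h]
  exact (Groth.L28.Strata.lcPred_comp G V.ι (T.homOfLE h)).1
    (Groth.L28.LocConst.isFiniteLocallyConstant_pull (T.homOfLE h) _ hV)

/-- Generic local constancy. -/
theorem exists_open_isFLC_smooth_curve (hdim : ∀ t : T, topologicalKrullDim (g.fiber t) ≤ 1) :
    ∃ U : T.Opens, genericPoint T ∈ U ∧ ∀ q : ℕ,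
      EtCoh.IsFiniteLocallyConstant ((EtCoh.pull U.ι).obj ((EtCoh.Rpush g q).obj (EtCoh.const N (ZMod p)))) := by
  let F : EtCoh.Ab N := EtCoh.const N (ZMod p)
  let G (q : ℕ) : EtCoh.Ab T := (EtCoh.Rpush g q).obj F
  have hFt : EtCoh.IsTorsion F := Groth.L27.PBC.isTorsion_const N (ZMod p)
  haveI := fun {A B : Scheme.{u}} (k : A ⟶ B) => (EtCoh.pullPushAdj k).left_adjoint_additive
  have hz : ∀ q, IsZero (G q) →
      ∃ U : T.Opens, genericPoint T ∈ U ∧ EtCoh.IsFiniteLocallyConstant ((EtCoh.pull U.ι).obj (G q)) :=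
    fun q h => ⟨⊤, trivial, Groth.L28.ExtShriek.isFLC_of_isZero ((EtCoh.pull _).map_isZero h)⟩
  have key : ∀ q, ∃ U : T.Opens, genericPoint T ∈ U ∧
      EtCoh.IsFiniteLocallyConstant ((EtCoh.pull U.ι).obj (G q)) := by
    intro q
    by_cases hp : (p : Γ(T, ⊤)) = 0
    · rcases Nat.lt_or_ge 1 q with h | h
      · refine hz q (Groth.Agent.S3096.result g p Fact.out hp 1 hdim F (fun U s => ⟨1, ?_⟩) q h)
        have := Groth.L27.ProperH1.killedBy_const (Y := N) (ZMod p) U s
        simp only [Nat.card_zmod] at this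
        simpa using this
      · exact exists_open_isFLC_of_card_le (G q) (fun Ω _ _ ξ => finite_stalk_const g p hdim q ξ) ⊤ trivial
          fun Ω _ _ ξ _ Ω' _ _ ξ' hξ' => card_stalk_le g p hdim 0 q h _ (Or.inl rfl) ξ rfl ξ' hξ'
    · let W : T.Opens := T.basicOpen (p : Γ(T, ⊤))
      have hW : genericPoint T ∈ W := by
        refine ((genericPoint_spec T).mem_open_set_iff W.2).2 ?_
        rw [Set.univ_inter]
        by_contra h
        exact hp ((basicOpen_eq_bot_iff _).1 (TopologicalSpace.Opens.ext (Set.not_nonempty_iff_eq_empty.1 h)))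
      refine exists_open_isFLC_of_card_le (G q) (fun Ω _ _ ξ => finite_stalk_const g p hdim q ξ) W hW
        fun Ω _ _ ξ hξW Ω' _ _ ξ' hξ' => card_stalk_le g p hdim q q (Nat.le_succ q) _ (Or.inr ?_) ξ rfl ξ' hξ'
      have := (T.evaluation_ne_zero_iff_mem_basicOpen (ξ default) (show ξ default ∈ (⊤ : T.Opens) from trivial) (p : Γ(T, ⊤))).2 hξW
      rwa [map_natCast] at this
  choose U hU hlc using key
  refine ⟨U 0 ⊓ U 1 ⊓ U 2, ⟨⟨hU 0, hU 1⟩, hU 2⟩, fun q => ?_⟩
  match q with
  | 0 => exact isFLC_pull_of_le (inf_le_left.trans inf_le_left) (hlc 0)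
  | 1 => exact isFLC_pull_of_le (inf_le_left.trans inf_le_right) (hlc 1)
  | 2 => exact isFLC_pull_of_le inf_le_right (hlc 2)
  | q + 3 =>
    have h := Groth.L27.PBC.isZero_Rpush_proper g 1 hdim F hFt (q + 3) (by omega)
    exact Groth.L28.ExtShriek.isFLC_of_isZero ((EtCoh.pull _).map_isZero h)

end Groth.L23.PFin
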